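import Cfsg.Agent.Lib.J3Type.Enum
import Cfsg.Agent.Lib.U6Three.Quat

/-!
# Affine groups of degree two over the field with three elements

A pair is a translation and a matrix given by the images of the two basis vectors. A `Lift` realises
`3² : GL(2, 3)` in a group with a chosen subgroup.
-/

set_option autoImplicit false
set_option linter.style.haveILetI false
set_option linter.unusedSectionVars false

namespace Cfsg.Lib.AmalgamM12

open Cfsg.Lib.J3Type (wval lval invL idL)
open Cfsg.Lib.U6Three (zp zp_add zp_zero zp_one zp_mem zp_comm zp_eq_one)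

universe u

/-- Vectors. -/
abbrev V3 : Type := ZMod 3 × ZMod 3

/-- Matrices by their columns. -/
abbrev M3 : Type := V3 × V3

/-- The image of a vector. -/
def mv (M : M3) (v : V3) : V3 := (v.1 * M.1.1 + v.2 * M.2.1, v.1 * M.1.2 + v.2 * M.2.2)

/-- The product of matrices. -/
def mm (M N : M3) : M3 := (mv M N.1, mv M N.2)

/-- The identity matrix. -/
def one3 : M3 := ((1, 0), (0, 1))

/-- Minus the identity matrix. -/
def neg3 : M3 := ((-1, 0), (0, -1))

/-- The determinant. -/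
def mdet (M : M3) : ZMod 3 := M.1.1 * M.2.2 - M.1.2 * M.2.1

/-- Affine maps. -/
abbrev Af : Type := V3 × M3

/-- The product of affine maps. -/
def amul (p q : Af) : Af := (p.1 + mv p.2 q.1, mm p.2 q.2)

/-- The identity. -/
def aone : Af := (0, one3)

theorem mdet_mm (M N : M3) : mdet (mm M N) = mdet M * mdet N := by simp only [mdet, mm, mv]; ring

theorem mm_assoc (L M N : M3) : mm (mm L M) N = mm L (mm M N) := by
  simp only [mm, mv, Prod.mk.injEq]; refine ⟨⟨?_, ?_⟩, ?_, ?_⟩ <;> ring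

theorem mv_add (M : M3) (v w : V3) : mv M (v + w) = mv M v + mv M w := by
  simp only [mv, Prod.fst_add, Prod.snd_add, Prod.mk_add_mk, Prod.mk.injEq]; constructor <;> ring

theorem mv_mm (M N : M3) (v : V3) : mv (mm M N) v = mv M (mv N v) := by
  simp only [mm, mv, Prod.mk.injEq]; constructor <;> ring

theorem mdet_one : mdet one3 ≠ 0 := by decide

theorem zmod_cases : ∀ b : ZMod 3, b ≠ 0 → b = 1 ∨ b = 2 := by decide

theorem mv_neg : ∀ v : V3, mv neg3 v = -v := by decide +kernel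

theorem fix_neg : ∀ (w : V3) (N : M3), w + mv N 0 = 0 + mv neg3 w → w = 0 := by decide +kernel

theorem card_good : Nat.card {M : M3 // mdet M ≠ 0} = 48 := by
  rw [Nat.card_eq_fintype_card]; decide +kernel

/-- A copy of the affine group onto a subgroup. -/
structure Lift {G : Type u} [Group G] (A : Subgroup G) where
  /-- The map. -/
  ψ : Af → G
  mul : ∀ p q : Af, mdet p.2 ≠ 0 → mdet q.2 ≠ 0 → ψ (amul p q) = ψ p * ψ q
  inj : ∀ p q : Af, mdet p.2 ≠ 0 → mdet q.2 ≠ 0 → ψ p = ψ q → p = q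
  mem : ∀ p : Af, mdet p.2 ≠ 0 → ψ p ∈ A
  surj : ∀ g ∈ A, ∃ p : Af, mdet p.2 ≠ 0 ∧ ψ p = g

namespace Lift

variable {G : Type u} [Group G] {A : Subgroup G} (L : Lift A)

theorem one : L.ψ aone = 1 := by
  have h := L.mul aone aone (by decide) (by decide)
  rw [show amul aone aone = aone by decide] at h
  exact left_eq_mul.1 h

theorem inv {p q : Af} (hp : mdet p.2 ≠ 0) (hq : mdet q.2 ≠ 0) (h : amul p q = aone) : L.ψ q = (L.ψ p)⁻¹ :=
  (inv_eq_of_mul_eq_one_right (by rw [← L.mul p q hp hq, h, L.one])).symm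

theorem comm_iff {p q : Af} (hp : mdet p.2 ≠ 0) (hq : mdet q.2 ≠ 0) :
    Commute (L.ψ p) (L.ψ q) ↔ amul p q = amul q p := by
  rw [Commute, SemiconjBy, ← L.mul p q hp hq, ← L.mul q p hq hp]
  exact ⟨fun h => L.inj _ _ (by rw [amul, mdet_mm]; exact mul_ne_zero hp hq)
    (by rw [amul, mdet_mm]; exact mul_ne_zero hq hp) h, fun h => by rw [h]⟩

/-- What acts as a matrix on the translations and commutes with minus one is that matrix. -/
theorem eq_of_act {g : G} (hg : g ∈ A) (hu : Commute g (L.ψ (0, neg3))) {M : M3}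
    (hz : g * L.ψ ((1, 0), one3) * g⁻¹ = L.ψ (M.1, one3)) (hx : g * L.ψ ((0, 1), one3) * g⁻¹ = L.ψ (M.2, one3)) :
    g = L.ψ (0, M) := by
  obtain ⟨⟨w, N⟩, hN, rfl⟩ := L.surj g hg
  have hw : w = 0 := by
    have h := congrArg Prod.fst ((L.comm_iff hN (by decide)).1 hu)
    simp only [amul] at h
    exact fix_neg w N h
  subst hw
  have key : ∀ (e c : V3), L.ψ (0, N) * L.ψ (e, one3) * (L.ψ (0, N))⁻¹ = L.ψ (c, one3) → mv N e = c := by
    intro e c h
    rw [mul_inv_eq_iff_eq_mul, ← L.mul _ _ hN mdet_one, ← L.mul _ _ mdet_one hN] at h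
    have h' := L.inj _ _ (by rw [amul, mdet_mm]; exact mul_ne_zero hN mdet_one)
      (by rw [amul, mdet_mm]; exact mul_ne_zero mdet_one hN) h
    have h1 := congrArg Prod.fst h'
    simp only [amul] at h1
    rw [zero_add, show mv one3 (0 : V3) = 0 by decide, add_zero] at h1
    exact h1
  have h1 := key _ _ hz
  have h2 := key _ _ hx
  have e : N = M := by
    refine Prod.ext ?_ ?_
    · rw [← h1]; simp [mv]
    · rw [← h2]; simp [mv]
  rw [e]

end Lift

/-- An elementary abelian normal subgroup of order nine that is self-centralising in a group of order 432. -/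
structure SideHyp {G : Type u} [Group G] (A Q : Subgroup G) : Prop where
  le : Q ≤ A
  card_A : Nat.card A = 432
  card_Q : Nat.card Q = 9
  norm : ∀ g ∈ A, ∀ q ∈ Q, g * q * g⁻¹ ∈ Q
  comm : ∀ p ∈ Q, ∀ q ∈ Q, p * q = q * p
  cube : ∀ q ∈ Q, q ^ 3 = 1
  cent : ∀ g ∈ A, (∀ q ∈ Q, g * q = q * g) → g ∈ Q

/-- A translation. -/
def tv {G : Type u} [Group G] (z x : G) (v : V3) : G := zp z v.1 * zp x v.2

namespace SideHyp

variable {G : Type u} [Group G] [Finite G] {A Q : Subgroup G} (h : SideHyp A Q) {z x : G}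
include h

theorem tv_mem (hz : z ∈ Q) (hx : x ∈ Q) (v : V3) : tv z x v ∈ Q := mul_mem (zp_mem hz _) (zp_mem hx _)

theorem tv_add (hz : z ∈ Q) (hx : x ∈ Q) (v w : V3) : tv z x (v + w) = tv z x v * tv z x w := by
  simp only [tv, Prod.fst_add, Prod.snd_add, zp_add (h.cube z hz), zp_add (h.cube x hx)]
  rw [mul_assoc (zp z v.1), ← mul_assoc (zp z w.1), h.comm _ (zp_mem hz w.1) _ (zp_mem hx v.2)]
  simp only [mul_assoc]

theorem tv_inj (hz : z ∈ Q) (hx : x ∈ Q) (hz1 : z ≠ 1) (hxz : x ∉ Subgroup.zpowers z) :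
    Function.Injective (tv z x) := by
  have hker : ∀ v, tv z x v = 1 → v = 0 := by
    rintro ⟨a, b⟩ e
    have h3 : (3 : ℕ).Prime := Nat.prime_three
    haveI := Fact.mk h3
    have hzo : orderOf z = 3 := orderOf_eq_prime (h.cube z hz) hz1
    have hxo : orderOf x = 3 := orderOf_eq_prime (h.cube x hx) fun e' => hxz (e' ▸ one_mem _)
    simp only [tv] at e
    have hb : b = 0 := by
      by_contra hb
      apply hxz
      have hx' : zp x b ∈ Subgroup.zpowers z := by
        rw [eq_inv_of_mul_eq_one_right e]; exact inv_mem (zp_mem (Subgroup.mem_zpowers z) _)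
      have : zp (zp x b) b ∈ Subgroup.zpowers z := zp_mem hx' _
      rwa [show zp (zp x b) b = x by
        rcases zmod_cases b hb with rfl | rfl
        · rw [zp_one, zp_one]
        · show (x ^ 2) ^ 2 = x
          rw [← pow_mul, pow_succ, h.cube x hx, one_mul]] at this
    subst hb
    rw [zp_zero, mul_one] at e
    rw [zp_eq_one hzo e]; rfl
  intro v w e
  have e' : tv z x (v - w) * tv z x w = tv z x w := by rw [← h.tv_add hz hx, sub_add_cancel, e]
  exact sub_eq_zero.1 (hker _ (mul_eq_right.1 e'))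

theorem tv_zero : tv z x 0 = 1 := by simp [tv, zp_zero]

theorem tv_basis : tv z x (1, 0) = z ∧ tv z x (0, 1) = x := by simp [tv, zp_zero, zp_one]

theorem tv_surj (hz : z ∈ Q) (hx : x ∈ Q) (hz1 : z ≠ 1) (hxz : x ∉ Subgroup.zpowers z) {q : G} (hq : q ∈ Q) :
    ∃ v, tv z x v = q := by
  let f : V3 → Q := fun v => ⟨tv z x v, h.tv_mem hz hx v⟩
  have hf : Function.Bijective f := (Nat.bijective_iff_injective_and_card f).2
    ⟨fun a b e => h.tv_inj hz hx hz1 hxz (congrArg Subtype.val e), by rw [h.card_Q]; simp⟩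
  obtain ⟨v, hv⟩ := hf.2 ⟨q, hq⟩
  exact ⟨v, congrArg Subtype.val hv⟩

/-- The action of a side on the translations. -/
theorem exists_mu (hz : z ∈ Q) (hx : x ∈ Q) (hz1 : z ≠ 1) (hxz : x ∉ Subgroup.zpowers z) :
    ∃ μ : A → M3, (∀ (g : A) (v : V3), (g : G) * tv z x v * (g : G)⁻¹ = tv z x (mv (μ g) v)) ∧
      (∀ g k, μ (g * k) = mm (μ g) (μ k)) ∧ μ 1 = one3 ∧ (∀ g, mdet (μ g) ≠ 0) ∧
      (∀ g k : A, μ g = μ k → ((g⁻¹ * k : A) : G) ∈ Q) ∧ ∀ M, mdet M ≠ 0 → ∃ g, μ g = M := by
  classical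
  have hinj := h.tv_inj hz hx hz1 hxz
  have hsurj := fun {q : G} (hq : q ∈ Q) => h.tv_surj hz hx hz1 hxz hq
  choose co hco using fun q : Q => hsurj q.2
  let μ : A → M3 := fun g =>
    (co ⟨(g : G) * z * (g : G)⁻¹, h.norm g g.2 z hz⟩, co ⟨(g : G) * x * (g : G)⁻¹, h.norm g g.2 x hx⟩)
  have hpow : ∀ (w : V3) (n : ℕ), tv z x w ^ n = tv z x (n • w) := by
    intro w n
    induction n with
    | zero => rw [pow_zero, zero_smul, h.tv_zero]
    | succ n ih => rw [pow_succ, ih, succ_nsmul, h.tv_add hz hx]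
  have hact : ∀ (g : A) (v : V3), (g : G) * tv z x v * (g : G)⁻¹ = tv z x (mv (μ g) v) := by
    intro g v
    have e1 : (g : G) * z * (g : G)⁻¹ = tv z x (μ g).1 := (hco ⟨_, h.norm g g.2 z hz⟩).symm
    have e2 : (g : G) * x * (g : G)⁻¹ = tv z x (μ g).2 := (hco ⟨_, h.norm g g.2 x hx⟩).symm
    have e : (g : G) * tv z x v * (g : G)⁻¹ =
        ((g : G) * z * (g : G)⁻¹) ^ v.1.val * ((g : G) * x * (g : G)⁻¹) ^ v.2.val := by
      rw [conj_pow, conj_pow, show tv z x v = z ^ v.1.val * x ^ v.2.val from rfl]; group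
    rw [e, e1, e2, hpow, hpow, ← h.tv_add hz hx]
    congr 1
    rw [← Nat.cast_smul_eq_nsmul (ZMod 3), ← Nat.cast_smul_eq_nsmul (ZMod 3), ZMod.natCast_zmod_val,
      ZMod.natCast_zmod_val]
    refine Prod.ext ?_ ?_ <;> simp [mv]
  have hμmul : ∀ g k : A, μ (g * k) = mm (μ g) (μ k) := by
    intro g k
    have key : ∀ v, mv (μ (g * k)) v = mv (μ g) (mv (μ k) v) := fun v => hinj (by
      rw [← hact, ← hact, ← hact, Subgroup.coe_mul]; group)
    refine Prod.ext ?_ ?_
    · have := key (1, 0); simpa [mv, mm] using this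
    · have := key (0, 1); simpa [mv, mm] using this
  have hμ1 : μ 1 = one3 := by
    have key : ∀ v, mv (μ 1) v = v := fun v => hinj (by rw [← hact, OneMemClass.coe_one]; group)
    refine Prod.ext ?_ ?_
    · have := key (1, 0); simpa [mv, one3] using this
    · have := key (0, 1); simpa [mv, one3] using this
  have hker : ∀ g : A, μ g = one3 → (g : G) ∈ Q := fun g e => h.cent g g.2 fun q hq => by
    obtain ⟨v, rfl⟩ := hsurj hq
    refine mul_inv_eq_iff_eq_mul.1 ((hact g v).trans ?_)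
    rw [e]; congr 1; simp [mv, one3]
  have hdet : ∀ g : A, mdet (μ g) ≠ 0 := fun g e => by
    have := congrArg mdet (hμmul g g⁻¹)
    rw [mul_inv_cancel, hμ1, mdet_mm, e, zero_mul] at this
    exact absurd this (by decide)
  have hμinv : ∀ g k : A, μ g = μ k → ((g⁻¹ * k : A) : G) ∈ Q := fun g k e => hker _ (by
    rw [hμmul, ← e, ← hμmul, inv_mul_cancel, hμ1])
  have hμsurj : ∀ M : M3, mdet M ≠ 0 → ∃ g : A, μ g = M := by
    let f : A → {M : M3 // mdet M ≠ 0} := fun g => ⟨μ g, hdet g⟩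
    have hsec : ∀ r : Set.range f, ∃ g : A, f g = r := fun r => r.2
    choose sec hsec using hsec
    let Φ : A → Set.range f × Q := fun g => (⟨f g, g, rfl⟩,
      ⟨(((sec ⟨f g, g, rfl⟩)⁻¹ * g : A) : G), hμinv _ _ (congrArg Subtype.val (hsec ⟨f g, g, rfl⟩))⟩)
    have hΦ : Function.Injective Φ := by
      intro g k e
      have e2 : (((sec (Φ g).1)⁻¹ * g : A) : G) = (((sec (Φ k).1)⁻¹ * k : A) : G) :=
        congrArg (fun r => ((r : Set.range f × Q).2 : G)) e
      rw [congrArg Prod.fst e] at e2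
      exact mul_left_cancel (Subtype.ext e2)
    have h1 := Nat.card_le_card_of_injective Φ hΦ
    rw [h.card_A, Nat.card_prod, h.card_Q] at h1
    have hr : Set.range f = Set.univ := Set.eq_of_subset_of_ncard_le (Set.subset_univ _)
      (by rw [Set.ncard_univ, card_good, ← Nat.card_coe_set_eq]; omega) (Set.toFinite _)
    intro M hM
    obtain ⟨g, hg⟩ := (hr ▸ Set.mem_univ _ : (⟨M, hM⟩ : {M : M3 // mdet M ≠ 0}) ∈ Set.range f)
    exact ⟨g, congrArg Subtype.val hg⟩
  exact ⟨μ, hact, hμmul, hμ1, hdet, hμinv, hμsurj⟩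

/-- An involution inverting the translations. -/
theorem exists_neg (hz : z ∈ Q) (hx : x ∈ Q) (hz1 : z ≠ 1) (hxz : x ∉ Subgroup.zpowers z) :
    ∃ u ∈ A, u * u = 1 ∧ u * z * u⁻¹ = z⁻¹ ∧ u * x * u⁻¹ = x⁻¹ := by
  obtain ⟨μ, hact, hμmul, hμ1, -, hμinv, hμsurj⟩ := h.exists_mu hz hx hz1 hxz
  obtain ⟨g, hg⟩ := hμsurj neg3 (by decide)
  have hg2 : ((g * g : A) : G) ∈ Q := by
    have := hμinv 1 (g * g) (by rw [hμ1, hμmul, hg]; decide)
    simpa using this
  have hg3 : μ (g * g * g) = neg3 := by rw [hμmul, hμmul, hg]; decide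
  refine ⟨((g * g * g : A) : G), (g * g * g).2, ?_, ?_, ?_⟩
  · have h3 := h.cube _ hg2
    rw [pow_three] at h3
    simp only [Subgroup.coe_mul] at h3 ⊢
    simpa only [mul_assoc] using h3
  · have e := hact (g * g * g) (1, 0)
    rw [hg3, (h.tv_basis (z := z) (x := x)).1, mv_neg] at e
    rw [e]
    exact eq_inv_of_mul_eq_one_left (by
      nth_rewrite 2 [← (h.tv_basis (z := z) (x := x)).1]; rw [← h.tv_add hz hx, neg_add_cancel, h.tv_zero])
  · have e := hact (g * g * g) (0, 1)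
    rw [hg3, (h.tv_basis (z := z) (x := x)).2, mv_neg] at e
    rw [e]
    exact eq_inv_of_mul_eq_one_left (by
      nth_rewrite 2 [← (h.tv_basis (z := z) (x := x)).2]; rw [← h.tv_add hz hx, neg_add_cancel, h.tv_zero])

/-- The side as a copy of the affine group, with given basis and given minus one. -/
theorem exists_lift (hz : z ∈ Q) (hx : x ∈ Q) (hz1 : z ≠ 1) (hxz : x ∉ Subgroup.zpowers z) {u : G}
    (hu : u ∈ A) (hu2 : u * u = 1) (huz : u * z * u⁻¹ = z⁻¹) (hux : u * x * u⁻¹ = x⁻¹) :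
    ∃ L : Lift A, (∀ v, L.ψ (v, one3) = tv z x v) ∧ L.ψ (0, neg3) = u := by
  classical
  have hinj := h.tv_inj hz hx hz1 hxz
  have hsurj := fun {q : G} (hq : q ∈ Q) => h.tv_surj hz hx hz1 hxz hq
  obtain ⟨μ, hact, hμmul, hμ1, hdet, hμinv, hμsurj⟩ := h.exists_mu hz hx hz1 hxz
  have hker : ∀ g : A, μ g = one3 → (g : G) ∈ Q := fun g e => by
    have := hμinv 1 g (by rw [hμ1, e])
    simpa using this
  have huμ : μ ⟨u, hu⟩ = neg3 := by
    have key : ∀ v, mv (μ ⟨u, hu⟩) v = -v ↔ u * tv z x v * u⁻¹ = (tv z x v)⁻¹ := fun v => by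
      have hn : tv z x (-v) = (tv z x v)⁻¹ :=
        eq_inv_of_mul_eq_one_left (by rw [← h.tv_add hz hx, neg_add_cancel, h.tv_zero])
      rw [show u * tv z x v * u⁻¹ = _ from hact ⟨u, hu⟩ v, ← hn]
      exact ⟨fun e => by rw [e], fun e => hinj e⟩
    refine Prod.ext ?_ ?_
    · have := (key (1, 0)).2 (by rw [(h.tv_basis (z := z) (x := x)).1]; exact huz)
      simpa [mv, neg3] using this
    · have := (key (0, 1)).2 (by rw [(h.tv_basis (z := z) (x := x)).2]; exact hux)
      simpa [mv, neg3] using this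
  have huinv : ∀ q ∈ Q, u * q = q⁻¹ * u := fun q hq => by
    obtain ⟨v, rfl⟩ := hsurj hq
    have e := hact ⟨u, hu⟩ v
    rw [huμ, mv_neg] at e
    rw [mul_inv_eq_iff_eq_mul.1 e]
    congr 1
    exact eq_inv_of_mul_eq_one_left (by rw [← h.tv_add hz hx, neg_add_cancel, h.tv_zero])
  have hlift : ∀ M : M3, mdet M ≠ 0 → ∃ g : A, μ g = M ∧ (g : G) * u = u * g := by
    intro M hM
    obtain ⟨g, hg⟩ := hμsurj M hM
    set U : A := ⟨u, hu⟩
    have hUinv : U⁻¹ = U := Subtype.ext (inv_eq_of_mul_eq_one_right hu2)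
    have hc : ((U⁻¹ * (g * U * g⁻¹) : A) : G) ∈ Q := hμinv _ _ (by
      rw [hμmul, hμmul, huμ]
      have hgi : mm (μ g) (μ g⁻¹) = one3 := by rw [← hμmul, mul_inv_cancel, hμ1]
      have hcom : mm (μ g) neg3 = mm neg3 (μ g) := by simp [mm, mv, neg3]
      rw [hcom, mm_assoc, hgi]; simp [mm, mv, neg3, one3])
    set c : A := g * U * g⁻¹ * U with hcdef
    have hcQ : (c : G) ∈ Q := by
      have := h.norm u hu _ hc
      convert this using 1
      simp [hcdef, U, inv_eq_of_mul_eq_one_right hu2]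
      group
      rw [hu2, one_mul]
    have hcA : μ c = one3 := by
      have key : ∀ v, mv (μ c) v = v := fun v => hinj (by
        rw [← hact, h.comm _ hcQ _ (h.tv_mem hz hx v), mul_inv_cancel_right])
      refine Prod.ext ?_ ?_
      · have := key (1, 0); simpa [mv, one3] using this
      · have := key (0, 1); simpa [mv, one3] using this
    refine ⟨c * g, by rw [hμmul, hcA, hg]; simp [mm, mv, one3], ?_⟩
    have e1 : (g : G) * u = (c : G) * u * g := by
      have : ((c : A) : G) = g * u * (g : G)⁻¹ * u := by simp [hcdef, U]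
      rw [this, show (g : G) * u * (g : G)⁻¹ * u * u * g = g * u * (g : G)⁻¹ * (u * u) * g by group, hu2]
      group
    have hc3 : (c : G) * c = (c : G)⁻¹ := eq_inv_of_mul_eq_one_left (by
      have := h.cube _ hcQ; rwa [pow_three, ← mul_assoc] at this)
    rw [Subgroup.coe_mul, mul_assoc, e1, ← mul_assoc, ← mul_assoc, hc3, ← huinv _ hcQ, mul_assoc]
  choose lam hlam using hlift
  have huniq : ∀ M (hM : mdet M ≠ 0) (g : A), μ g = M → (g : G) * u = u * g → g = lam M hM := by
    intro M hM g hg hgu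
    have hm := hμinv g (lam M hM) (hg.trans (hlam M hM).1.symm)
    set q : A := g⁻¹ * lam M hM with hq
    have hqu : (q : G) * u = u * q := by
      have hcomm : Commute ((g : G)⁻¹ * (lam M hM : G)) u :=
        (Commute.inv_left hgu).mul_left (hlam M hM).2
      simpa [hq] using hcomm.eq
    have hq1 : (q : G) = 1 := by
      rw [huinv _ hm] at hqu
      have hqq : (q : G) * q = 1 := mul_eq_one_iff_eq_inv.2 (mul_right_cancel hqu)
      have := h.cube _ hm
      rwa [pow_three, hqq, mul_one] at this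
    exact inv_mul_eq_one.1 (Subtype.ext hq1)
  let lM : M3 → G := fun M => if hM : mdet M ≠ 0 then (lam M hM : G) else 1
  have hlM : ∀ M (hM : mdet M ≠ 0), lM M = (lam M hM : G) := fun M hM => dif_pos hM
  have hlmul : ∀ M N, mdet M ≠ 0 → mdet N ≠ 0 → lM (mm M N) = lM M * lM N := by
    intro M N hM hN
    have hMN : mdet (mm M N) ≠ 0 := by rw [mdet_mm]; exact mul_ne_zero hM hN
    rw [hlM _ hM, hlM _ hN, hlM _ hMN, ← Subgroup.coe_mul]
    refine (congrArg Subtype.val (huniq _ hMN (lam M hM * lam N hN) ?_ ?_)).symm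
    · rw [hμmul, (hlam M hM).1, (hlam N hN).1]
    · exact (Commute.mul_left (hlam M hM).2 (hlam N hN).2).eq
  have hlone : lM one3 = 1 := by
    rw [hlM _ (by decide)]
    exact (congrArg Subtype.val (huniq _ (by decide) 1 hμ1 (by simp))).symm
  refine ⟨{ ψ := fun p => tv z x p.1 * lM p.2, mul := ?_, inj := ?_, mem := ?_, surj := ?_ },
    fun v => ?_, ?_⟩
  · rintro ⟨w, M⟩ ⟨w', N⟩ hM hN
    show tv z x (w + mv M w') * lM (mm M N) = tv z x w * lM M * (tv z x w' * lM N)
    rw [hlmul M N hM hN, h.tv_add hz hx]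
    have e : lM M * tv z x w' = tv z x (mv M w') * lM M := by
      rw [hlM M hM]
      have := hact (lam M hM) w'
      rw [(hlam M hM).1, mul_inv_eq_iff_eq_mul] at this
      exact this
    rw [mul_assoc, mul_assoc, ← mul_assoc (lM M), e, mul_assoc]
  · rintro ⟨w, M⟩ ⟨w', N⟩ hM hN e
    simp only at e
    rw [hlM M hM, hlM N hN] at e
    have hMN : M = N := by
      have := congrArg μ (Subtype.ext e : (⟨_, h.le (h.tv_mem hz hx w)⟩ * lam M hM : A) =
        ⟨_, h.le (h.tv_mem hz hx w')⟩ * lam N hN)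
      have h0 : ∀ v, μ ⟨_, h.le (h.tv_mem hz hx v)⟩ = one3 := by
        intro v
        have key : ∀ w, mv (μ ⟨_, h.le (h.tv_mem hz hx v)⟩) w = w := fun w => hinj (by
          rw [← hact]; show tv z x v * tv z x w * (tv z x v)⁻¹ = _
          rw [← h.tv_add hz hx, add_comm, h.tv_add hz hx, mul_inv_cancel_right])
        refine Prod.ext ?_ ?_
        · have := key (1, 0); simpa [mv, one3] using this
        · have := key (0, 1); simpa [mv, one3] using this
      rw [hμmul, hμmul, h0, h0, (hlam M hM).1, (hlam N hN).1] at this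
      simpa [mm, mv, one3] using this
    subst hMN
    rw [hinj (mul_right_cancel e)]
  · rintro ⟨w, M⟩ hM
    simp only
    rw [hlM M hM]
    exact mul_mem (h.le (h.tv_mem hz hx w)) (lam M hM).2
  · intro g hg
    have hM := hdet ⟨g, hg⟩
    have hq : (((⟨g, hg⟩ : A) * (lam _ hM)⁻¹ : A) : G) ∈ Q := hker _ (by
      have e : μ (lam _ hM) = μ ⟨g, hg⟩ := (hlam _ hM).1
      have h2 : mm (μ (lam _ hM)) (μ (lam _ hM)⁻¹) = one3 := by rw [← hμmul, mul_inv_cancel, hμ1]
      rw [hμmul]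
      rw [e] at h2
      exact h2)
    obtain ⟨v, hv⟩ := hsurj hq
    refine ⟨(v, μ ⟨g, hg⟩), hM, ?_⟩
    simp only
    rw [hlM _ hM, hv]
    simp
  · simp only
    rw [hlone, mul_one]
  · simp only
    rw [h.tv_zero, one_mul, hlM _ (by decide)]
    exact (congrArg Subtype.val (huniq _ (by decide) ⟨u, hu⟩ huμ rfl)).symm

end SideHyp

end Cfsg.Lib.AmalgamM12
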