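import Cfsg.Agent.Lib.AmalgamM12.Frame
import Cfsg.Prelude.Def_Solvable
import Cfsg.Prelude.Def_CaseTheorems

/-!
# The frame of an amalgam of two such sides
-/

set_option autoImplicit false
set_option linter.style.haveILetI false
set_option linter.unusedSectionVars false
set_option maxHeartbeats 1000000
set_option synthInstance.maxSize 4000

namespace Cfsg.Lib.AmalgamM12

open Cfsg
open Cfsg.Lib.U6Three (zp zp_mem zp_one zp_zero)

universe u

theorem card_gl_two : Nat.card (GL (Fin 2) (ZMod 3)) = 48 := by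
  rw [Matrix.card_GL_field, Fin.prod_univ_two, ZMod.card]
  norm_num

theorem one_ne_mE : one3 ≠ mE := by decide

theorem mdet_mE : mdet mE ≠ 0 := by decide

variable {G : Type u} [Group G] [Finite G]

theorem relIndex_card {H K : Subgroup G} (h : H ≤ K) : H.relIndex K * Nat.card H = Nat.card K := by
  have e := Subgroup.relIndex_mul_relIndex (⊥ : Subgroup G) H K bot_le h
  rw [Subgroup.relIndex_bot_left, Subgroup.relIndex_bot_left] at e
  rw [mul_comm, e]

theorem card_side {A : Subgroup G} (e : A ⧸ pCore 3 A ≃* GL (Fin 2) (ZMod 3))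
    (h9 : Nat.card (pCore 3 A) = 9) : Nat.card A = 432 := by
  rw [Subgroup.card_eq_card_quotient_mul_card_subgroup (pCore 3 A), Nat.card_congr e.toEquiv, card_gl_two, h9]

theorem sideHyp_core {A : Subgroup G} (e : A ⧸ pCore 3 A ≃* GL (Fin 2) (ZMod 3))
    (h : IsMulCommutative (pCore 3 A) ∧ (∀ x ∈ pCore 3 A, x ^ 3 = 1) ∧ Nat.card (pCore 3 A) = 9 ∧
      Subgroup.centralizer ((pCore 3 A : Subgroup A) : Set A) = pCore 3 A) :
    SideHyp A ((pCore 3 A).map A.subtype) where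
  le := Subgroup.map_subtype_le _
  card_A := card_side e h.2.2.1
  card_Q := by rw [Subgroup.card_map_of_injective A.subtype_injective]; exact h.2.2.1
  norm := by
    rintro g hg _ ⟨q, hq, rfl⟩
    exact ⟨⟨g, hg⟩ * q * ⟨g, hg⟩⁻¹, (pCore_normal 3 A).conj_mem q hq _, rfl⟩
  comm := by
    rintro _ ⟨p, hp, rfl⟩ _ ⟨q, hq, rfl⟩
    exact congrArg A.subtype (congrArg Subtype.val (h.1.is_comm.comm (⟨p, hp⟩ : pCore 3 A) ⟨q, hq⟩))
  cube := by
    rintro _ ⟨q, hq, rfl⟩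
    rw [← map_pow, h.2.1 q hq, map_one]
  cent := by
    intro g hg hc
    refine ⟨⟨g, hg⟩, ?_, rfl⟩
    rw [← h.2.2.2]
    exact Subgroup.mem_centralizer_iff.2 fun q hq => Subtype.ext (hc q ⟨q, hq, rfl⟩).symm

/-- A subgroup of order 27 of a side contains the translations. -/
theorem SideHyp.le_of_card {A Q P : Subgroup G} (h : SideHyp A Q) (hP : P ≤ A) (h27 : Nat.card P = 27) : Q ≤ P := by
  have hN : (Q.subgroupOf A).Normal := ⟨fun q hq g => Subgroup.mem_subgroupOf.2 (h.norm g g.2 q hq)⟩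
  have c1 : Nat.card (P.subgroupOf A) = 27 := by rw [Nat.card_congr (Subgroup.subgroupOfEquivOfLe hP).toEquiv, h27]
  have c2 : Nat.card (Q.subgroupOf A) = 9 := by rw [Nat.card_congr (Subgroup.subgroupOfEquivOfLe h.le).toEquiv, h.card_Q]
  have p1 : IsPGroup 3 (P.subgroupOf A) := IsPGroup.of_card (n := 3) (by rw [c1]; norm_num)
  have p2 : IsPGroup 3 (Q.subgroupOf A) := IsPGroup.of_card (n := 2) (by rw [c2]; norm_num)
  obtain ⟨n, hn⟩ := IsPGroup.iff_card.1 (p1.to_sup_of_normal_right p2)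
  have hd : 3 ^ n ∣ 432 := by
    rw [← hn, ← h.card_A]; exact Subgroup.card_subgroup_dvd_card _
  have hn3 : n ≤ 3 := by
    by_contra hlt
    exact absurd ((pow_dvd_pow 3 (show 4 ≤ n by omega)).trans hd) (by norm_num)
  have heq : P.subgroupOf A = P.subgroupOf A ⊔ Q.subgroupOf A :=
    Subgroup.eq_of_le_of_card_ge le_sup_left (by
      rw [hn, c1]; exact (Nat.pow_le_pow_right (by norm_num) hn3).trans (by norm_num))
  intro q hq
  have : (⟨q, h.le hq⟩ : A) ∈ P.subgroupOf A := heq ▸ le_sup_right (a := P.subgroupOf A) (Subgroup.mem_subgroupOf.2 hq)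
  exact Subgroup.mem_subgroupOf.1 this

/-- The element of the other translations commuting with minus one. -/
theorem Lift.transvection_mem {A Q Q' : Subgroup G} (L : Lift A)
    (hQ : ∀ g, g ∈ Q ↔ ∃ v : V3, L.ψ (v, one3) = g)
    (hz : L.ψ ((1, 0), one3) ∈ Q') (hle : Q' ≤ A) (hex : ∃ y ∈ Q', y ∉ Q)
    (hinf : ∀ g ∈ Q, g ∈ Q' → ∃ c : ZMod 3, L.ψ ((c, 0), one3) = g)
    (hcomm : ∀ g ∈ Q', g * L.ψ ((1, 0), one3) = L.ψ ((1, 0), one3) * g) (hcube : ∀ g ∈ Q', g ^ 3 = 1)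
    (hnorm : ∀ g ∈ Q', L.ψ (0, neg3) * g * (L.ψ (0, neg3))⁻¹ ∈ Q') :
    L.ψ (0, mE) ∈ Q' := by
  obtain ⟨y, hy, hyQ⟩ := hex
  obtain ⟨⟨w, M⟩, hM, rfl⟩ := L.surj y (hle hy)
  have hM1 : M ≠ one3 := fun e => hyQ ((hQ _).2 ⟨w, by rw [e]⟩)
  have e1 := (L.comm_iff hM mdet_one).1 (hcomm _ hy)
  have e3 : amul (w, M) (amul (w, M) (w, M)) = aone := by
    have hMM : mdet (amul (w, M) (w, M)).2 ≠ 0 := by show mdet (mm M M) ≠ 0; rw [mdet_mm]; exact mul_ne_zero hM hM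
    refine L.inj _ aone (by show mdet (mm _ _) ≠ 0; rw [mdet_mm]; exact mul_ne_zero hM hMM) mdet_one ?_
    rw [L.mul _ _ hM hMM, L.mul _ _ hM hM, L.one, ← pow_three, hcube _ hy]
  have shape : ∀ (w : V3) (M : M3), mdet M ≠ 0 → M ≠ one3 →
      amul (w, M) ((1, 0), one3) = amul ((1, 0), one3) (w, M) → amul (w, M) (amul (w, M) (w, M)) = aone →
      (M = mE ∨ M = mm mE mE) := by decide +kernel
  have hMc := shape w M hM hM1 e1 e3
  obtain ⟨q, hq, e4, e5⟩ : ∃ q : Af, mdet q.2 ≠ 0 ∧ amul (w, M) q = amul (amul (0, neg3) (w, M)) (0, neg3) ∧ q.2 = one3 := by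
    have t : ∀ (w : V3) (M : M3), (M = mE ∨ M = mm mE mE) → ∃ q : Af, mdet q.2 ≠ 0 ∧
        amul (w, M) q = amul (amul (0, neg3) (w, M)) (0, neg3) ∧ q.2 = one3 := by decide +kernel
    exact t w M hMc
  have hnn : (L.ψ (0, neg3))⁻¹ = L.ψ (0, neg3) := (L.inv (by decide) (by decide) (by decide)).symm
  have hq' : L.ψ q ∈ Q' := by
    have h1 : L.ψ (w, M) * L.ψ q = L.ψ (0, neg3) * L.ψ (w, M) * (L.ψ (0, neg3))⁻¹ := by
      rw [← L.mul _ _ hM hq, e4, hnn, L.mul _ _ (by show mdet (mm _ _) ≠ 0; rw [mdet_mm]; exact mul_ne_zero (by decide) hM) (by decide),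
        L.mul _ _ (by decide) hM]
    have := mul_mem (inv_mem hy) (h1 ▸ hnorm _ hy)
    rwa [inv_mul_cancel_left] at this
  obtain ⟨v, N⟩ := q
  simp only at e5 hq
  subst e5
  obtain ⟨c, hc⟩ := hinf _ ((hQ _).2 ⟨v, rfl⟩) hq'
  have hv : v = (c, 0) := (congrArg Prod.fst (L.inj _ _ mdet_one mdet_one hc)).symm
  subst hv
  have hw : ∀ (w : V3) (M : M3) (c : ZMod 3), (M = mE ∨ M = mm mE mE) →
      amul (w, M) ((c, 0), one3) = amul (amul (0, neg3) (w, M)) (0, neg3) →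
      amul ((c, 0), one3) (amul ((c, 0), one3) (w, M)) = (0, M) := by decide +kernel
  have hd : L.ψ (0, M) ∈ Q' := by
    rw [← hw w M c hMc e4, L.mul _ _ mdet_one (by show mdet (mm _ _) ≠ 0; rw [mdet_mm]; exact mul_ne_zero mdet_one hM),
      L.mul _ _ mdet_one hM]
    exact mul_mem hq' (mul_mem hq' hy)
  rcases hMc with rfl | rfl
  · exact hd
  · have e : amul ((0 : V3), mm mE mE) (0, mm mE mE) = (0, mE) := by decide
    have hMz : mdet (((0 : V3), mm mE mE) : Af).2 ≠ 0 := hM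
    rw [← e, L.mul _ _ hMz hMz]
    exact mul_mem hd hd

theorem exists_frame (A B : Subgroup G) (hgen : A ⊔ B = ⊤)
    (hSylA : ¬ 3 ∣ ((A ⊓ B).subgroupOf A).index)
    (hcore : ∀ N : Subgroup G, N ≤ A ⊓ B → (∀ a ∈ A, N.map (MulAut.conj a).toMonoidHom = N) →
      (∀ b ∈ B, N.map (MulAut.conj b).toMonoidHom = N) → N = ⊥)
    {QA QB : Subgroup G} (hA : SideHyp A QA) (hB : SideHyp B QB)
    (S : Sylow 3 ↥(A ⊓ B)) (Z : Subgroup G)
    (hZ : Z = ((S : Subgroup ↥(A ⊓ B)) ⊓ Subgroup.centralizer ((S : Subgroup ↥(A ⊓ B)) : Set ↥(A ⊓ B))).map (A ⊓ B).subtype)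
    (hNZ : Subgroup.normalizer (Z : Set G) ≤ A ⊓ B) : Nonempty (Frame G) := by
  set P := (S : Subgroup ↥(A ⊓ B)).map (A ⊓ B).subtype with hP
  have hPle : P ≤ A ⊓ B := Subgroup.map_subtype_le _
  have hP27 : Nat.card P = 27 := by
    rw [hP, Subgroup.card_map_of_injective (A ⊓ B).subtype_injective]
    obtain ⟨k, hk⟩ := IsPGroup.iff_card.1 S.isPGroup'
    have h1 := (S : Subgroup ↥(A ⊓ B)).card_mul_index
    have h2 := ((A ⊓ B).subgroupOf A).card_mul_index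
    rw [Nat.card_congr (Subgroup.subgroupOfEquivOfLe (inf_le_left : A ⊓ B ≤ A)).toEquiv, hA.card_A, ← h1, hk] at h2
    have hi := S.not_dvd_index
    have hd : (3 : ℕ) ^ 3 ∣ 3 ^ k := by
      have h4 : 3 ^ 3 ∣ 3 ^ k * ((S : Subgroup ↥(A ⊓ B)).index * ((A ⊓ B).subgroupOf A).index) := by
        rw [← mul_assoc, h2]; norm_num
      refine (Nat.Coprime.dvd_mul_right ?_).1 h4
      exact Nat.Coprime.pow_left _ (((Nat.prime_three.coprime_iff_not_dvd).2 hi).mul_right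
        ((Nat.prime_three.coprime_iff_not_dvd).2 hSylA))
    have hk3 : k ≤ 3 := by
      by_contra hlt
      have : 3 ^ 4 ∣ 432 := (pow_dvd_pow 3 (show 4 ≤ k by omega)).trans (h2 ▸ (dvd_mul_right _ _).trans (dvd_mul_right _ _))
      norm_num at this
    have hk3' : 3 ≤ k := (Nat.pow_dvd_pow_iff_le_right (by norm_num : 1 < 3)).1 hd
    rw [hk, show k = 3 by omega]; norm_num
  have hQA : QA ≤ P := hA.le_of_card (hPle.trans inf_le_left) hP27
  have hQB : QB ≤ P := hB.le_of_card (hPle.trans inf_le_right) hP27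
  have hne : QA ≠ QB := by
    intro e
    have hmap : ∀ (K : Subgroup G), SideHyp K QA → ∀ g ∈ K, QA.map (MulAut.conj g).toMonoidHom = QA := by
      intro K hK g hg
      refine Subgroup.eq_of_le_of_card_ge (by rintro _ ⟨q, hq, rfl⟩; exact hK.norm g hg q hq) ?_
      rw [Subgroup.card_map_of_injective (MulAut.conj g).injective]
    have h0 := hcore QA (hQA.trans hPle) (hmap A hA) (hmap B (e ▸ hB))
    have := hA.card_Q
    rw [h0, Subgroup.card_bot] at this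
    omega
  have hD : Nat.card ↥(QA ⊓ QB) = 3 := by
    have hr : QA.relIndex QB ≤ 3 := by
      refine le_trans (Subgroup.relIndex_le_of_le_right hQB ?_) ?_
      · exact (fun h0 => Subgroup.index_ne_zero_of_finite (H := QA.subgroupOf P) h0)
      · have := relIndex_card hQA
        rw [hA.card_Q, hP27] at this
        omega
    have hm := relIndex_card (inf_le_right : QA ⊓ QB ≤ QB)
    rw [Subgroup.inf_relIndex_right, hB.card_Q] at hm
    have hd : Nat.card ↥(QA ⊓ QB) ∣ 3 ^ 2 := by rw [show (3 : ℕ) ^ 2 = 9 by norm_num, ← hm]; exact dvd_mul_left _ _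
    obtain ⟨j, hj, hje⟩ := (Nat.dvd_prime_pow Nat.prime_three).1 hd
    have : j ≠ 2 := fun h2 => hne (by
      rw [h2] at hje
      exact (Subgroup.eq_of_le_of_card_ge (inf_le_left : QA ⊓ QB ≤ QA) (by rw [hA.card_Q, hje]; norm_num)).symm.trans
        (Subgroup.eq_of_le_of_card_ge (inf_le_right : QA ⊓ QB ≤ QB) (by rw [hB.card_Q, hje]; norm_num)))
    interval_cases j <;> simp_all <;> omega
  have hsup : QA ⊔ QB = P := by
    refine Subgroup.eq_of_le_of_card_ge (sup_le hQA hQB) ?_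
    obtain ⟨j, hj, hje⟩ := (Nat.dvd_prime_pow (m := 3) Nat.prime_three).1
      (show Nat.card ↥(QA ⊔ QB) ∣ 3 ^ 3 by
        rw [show (3 : ℕ) ^ 3 = 27 by norm_num, ← hP27]; exact Subgroup.card_dvd_of_le (sup_le hQA hQB))
    by_contra hlt
    have hj2 : j ≤ 2 := by
      by_contra hj2
      apply hlt
      rw [hje, hP27, show j = 3 by omega]; norm_num
    have hle9 : Nat.card ↥(QA ⊔ QB) ≤ 9 := by rw [hje]; exact (Nat.pow_le_pow_right (by norm_num) hj2).trans (by norm_num)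
    exact hne ((Subgroup.eq_of_le_of_card_ge le_sup_left (by rw [hA.card_Q]; exact hle9)).trans
      (Subgroup.eq_of_le_of_card_ge le_sup_right (by rw [hB.card_Q]; exact hle9)).symm)
  have hZD : Z = QA ⊓ QB := by
    rw [hZ]
    apply le_antisymm
    · rintro _ ⟨x, ⟨hxS, hxc⟩, rfl⟩
      have hc : ∀ q ∈ P, (x : G) * q = q * x := by
        rintro _ ⟨q, hq, rfl⟩
        exact (congrArg Subtype.val (Subgroup.mem_centralizer_iff.1 hxc q hq)).symm
      exact ⟨hA.cent _ (hPle ⟨x, hxS, rfl⟩).1 fun q hq => hc q (hQA hq),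
        hB.cent _ (hPle ⟨x, hxS, rfl⟩).2 fun q hq => hc q (hQB hq)⟩
    · intro x hx
      obtain ⟨y, hy, rfl⟩ := hQA hx.1
      refine ⟨y, ⟨hy, Subgroup.mem_centralizer_iff.2 fun q hq => Subtype.ext ?_⟩, rfl⟩
      have hqP : (q : G) ∈ P := ⟨q, hq, rfl⟩
      rw [← hsup] at hqP
      have hc : QA ⊔ QB ≤ Subgroup.centralizer ({(y : G)} : Set G) := sup_le
        (fun r hr => Subgroup.mem_centralizer_singleton_iff.2 (hA.comm r hr y hx.1))
        (fun r hr => Subgroup.mem_centralizer_singleton_iff.2 (hB.comm r hr y hx.2))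
      exact Subgroup.mem_centralizer_singleton_iff.1 (hc hqP)
  obtain ⟨⟨z, hzD⟩, hzo⟩ := exists_prime_orderOf_dvd_card' (G := ↥(QA ⊓ QB)) 3 (by rw [hD])
  rw [Subgroup.orderOf_mk] at hzo
  have hz1 : z ≠ 1 := fun e => by rw [e, orderOf_one] at hzo; omega
  have hzQA : z ∈ QA := hzD.1
  have hzQB : z ∈ QB := hzD.2
  have hDz : QA ⊓ QB = Subgroup.zpowers z :=
    (Subgroup.eq_of_le_of_card_ge (Subgroup.zpowers_le.2 hzD) (by rw [hD, Nat.card_zpowers, hzo])).symm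
  have hcz : ∀ g : G, Commute g z → g ∈ A ⊓ B := fun g hg => hNZ (by
    rw [hZD, hDz, Subgroup.mem_normalizer_iff]
    intro h
    constructor
    · rintro ⟨n, rfl⟩
      exact ⟨n, by rw [(hg.zpow_right n).eq, mul_inv_cancel_right]⟩
    · intro hh
      obtain ⟨n, hn⟩ := hh
      exact ⟨n, by
        beta_reduce at hn ⊢
        have : h = g⁻¹ * z ^ n * g := by rw [hn]; group
        rw [this, mul_assoc, ← (hg.zpow_right n).eq, inv_mul_cancel_left]⟩)
  have hinvz : ∀ g : G, g * z * g⁻¹ = z⁻¹ → g ∈ A ⊓ B := fun g hg => hNZ (by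
    rw [hZD, hDz, Subgroup.mem_normalizer_iff]
    intro h
    have e : ∀ n : ℤ, g * z ^ n * g⁻¹ = z ^ (-n) := fun n => by rw [← conj_zpow, hg, inv_zpow']
    constructor
    · rintro ⟨n, rfl⟩; exact ⟨-n, (e n).symm⟩
    · rintro ⟨n, hn⟩
      refine ⟨-n, ?_⟩
      have : g * z ^ (-n) * g⁻¹ = g * h * g⁻¹ := by rw [e, neg_neg]; exact hn
      simpa using this)
  have exA : ∃ x ∈ QA, x ∉ Subgroup.zpowers z := by
    by_contra hh; push Not at hh
    have := Subgroup.card_le_of_le (show QA ≤ Subgroup.zpowers z from hh)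
    rw [hA.card_Q, Nat.card_zpowers, hzo] at this; omega
  have notAB : ∃ y ∈ QB, y ∉ QA := by
    by_contra hh; push Not at hh
    exact hne (Subgroup.eq_of_le_of_card_ge (show QB ≤ QA from hh) (by rw [hA.card_Q, hB.card_Q])).symm
  have notBA : ∃ y ∈ QA, y ∉ QB := by
    by_contra hh; push Not at hh
    exact hne (Subgroup.eq_of_le_of_card_ge (show QA ≤ QB from hh) (by rw [hA.card_Q, hB.card_Q]))
  have liftQ : ∀ {K Q : Subgroup G}, SideHyp K Q → ∀ {x : G}, z ∈ Q → x ∈ Q → x ∉ Subgroup.zpowers z →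
      ∀ L : Lift K, (∀ v, L.ψ (v, one3) = tv z x v) → ∀ g, g ∈ Q ↔ ∃ v : V3, L.ψ (v, one3) = g := by
    intro K Q hK x hzK hx hxz L hL g
    constructor
    · intro hg
      obtain ⟨v, hv⟩ := hK.tv_surj hzK hx hz1 hxz hg
      exact ⟨v, by rw [hL, hv]⟩
    · rintro ⟨v, rfl⟩; rw [hL]; exact hK.tv_mem hzK hx v
  have line : ∀ {g : G}, g ∈ Subgroup.zpowers z → ∃ c : ZMod 3, zp z c = g := by
    intro g hg
    obtain ⟨n, rfl⟩ := hg
    exact ⟨(n : ZMod 3), by
      show z ^ ((n : ZMod 3)).val = z ^ n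
      rw [← zpow_natCast, ZMod.val_intCast, ← hzo]
      push_cast
      rw [zpow_mod_orderOf]⟩
  have gen : ∀ {K K' Q Q' : Subgroup G}, SideHyp K Q → SideHyp K' Q' → z ∈ Q → z ∈ Q' → Q' ≤ K →
      (∃ y ∈ Q', y ∉ Q) → (∀ g, g ∈ Q → g ∈ Q' → g ∈ Subgroup.zpowers z) → ∀ {x u : G} (hx : x ∈ Q)
      (hxz : x ∉ Subgroup.zpowers z) (L : Lift K), (∀ v, L.ψ (v, one3) = tv z x v) → L.ψ (0, neg3) = u →
      u ∈ K' → L.ψ (0, mE) ∈ Q' ∧ L.ψ (0, mE) ∉ Subgroup.zpowers z := by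
    intro K K' Q Q' hK hK' hzK hzK' hle hy hinf x u hx hxz L hL hLu hu
    have hQ := liftQ hK hzK hx hxz L hL
    have h10 : L.ψ ((1, 0), one3) = z := by rw [hL, (hK.tv_basis (z := z) (x := x)).1]
    refine ⟨L.transvection_mem hQ (by rw [h10]; exact hzK') hle hy (fun g hg hg' => ?_)
      (fun g hg => by rw [h10]; exact hK'.comm g hg z hzK') hK'.cube
      (fun g hg => by rw [hLu]; exact hK'.norm u hu g hg), fun h => ?_⟩
    · obtain ⟨c, rfl⟩ := line (hinf g hg hg')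
      exact ⟨c, by rw [hL]; simp [tv, zp_zero]⟩
    · obtain ⟨v, hv⟩ := (hQ _).1 (Subgroup.zpowers_le.2 hzK h)
      exact one_ne_mE (congrArg Prod.snd (L.inj _ _ mdet_one mdet_mE hv))
  have infz : ∀ g, g ∈ QA → g ∈ QB → g ∈ Subgroup.zpowers z := fun g h1 h2 => hDz ▸ ⟨h1, h2⟩
  obtain ⟨x, hx, hxz⟩ := exA
  obtain ⟨u, huA, hu2, huz, hux⟩ := hA.exists_neg hzQA hx hz1 hxz
  have huB : u ∈ B := (hinvz u huz).2
  obtain ⟨L0, hL0, hL0u⟩ := hA.exists_lift hzQA hx hz1 hxz huA hu2 huz hux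
  obtain ⟨hb0, hb0z⟩ := gen hA hB hzQA hzQB (hQB.trans (hPle.trans inf_le_left)) notAB infz hx hxz L0 hL0 hL0u huB
  set b0 := L0.ψ (0, mE) with hb0def
  obtain ⟨v0, hv0B, hv02, hv0z, hv0b⟩ := hB.exists_neg hzQB hb0 hz1 hb0z
  have hv0A : v0 ∈ A := (hinvz v0 hv0z).1
  obtain ⟨L1, hL1, hL1v⟩ := hB.exists_lift hzQB hb0 hz1 hb0z hv0B hv02 hv0z hv0b
  obtain ⟨haQ, haz⟩ := gen hB hA hzQB hzQA (hQA.trans (hPle.trans inf_le_right)) notBA
    (fun g h1 h2 => infz g h2 h1) hb0 hb0z L1 hL1 hL1v hv0A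
  set a := L1.ψ (0, mE) with hadef
  have hav : v0 * a * v0⁻¹ = a := by
    have : Commute v0 a := by rw [← hL1v]; exact (L1.comm_iff (by decide) (by decide)).2 (by decide)
    rw [this.eq, mul_inv_cancel_right]
  obtain ⟨ua, huAa, hua2, huaz, huaa⟩ := hA.exists_neg hzQA haQ hz1 haz
  have huaB : ua ∈ B := (hinvz ua huaz).2
  obtain ⟨LA, hLA, hLAu⟩ := hA.exists_lift hzQA haQ hz1 haz huAa hua2 huaz huaa
  have eA1 : LA.ψ ((1, 0), one3) = z := by rw [hLA, (hA.tv_basis (z := z) (x := a)).1]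
  have eA2 : LA.ψ ((0, 1), one3) = a := by rw [hLA, (hA.tv_basis (z := z) (x := a)).2]
  obtain ⟨hbQ, hbz⟩ := gen hA hB hzQA hzQB (hQB.trans (hPle.trans inf_le_left)) notAB infz haQ haz LA hLA hLAu huaB
  set b := LA.ψ (0, mE) with hbdef
  obtain ⟨⟨w, M⟩, hM, hwM⟩ := LA.surj v0 hv0A
  have hMM : mdet (amul (w, M) (w, M)).2 ≠ 0 := by show mdet (mm M M) ≠ 0; rw [mdet_mm]; exact mul_ne_zero hM hM
  have c2 : amul (w, M) (w, M) = aone := LA.inj _ _ hMM mdet_one (by rw [LA.mul _ _ hM hM, hwM, hv02, LA.one])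
  have cz : amul (amul (w, M) ((1, 0), one3)) (w, M) = ((-1, 0), one3) := by
    have hd : mdet (amul (w, M) ((1, 0), one3)).2 ≠ 0 := by show mdet (mm _ _) ≠ 0; rw [mdet_mm]; exact mul_ne_zero hM mdet_one
    refine LA.inj _ _ (by show mdet (mm _ _) ≠ 0; rw [mdet_mm]; exact mul_ne_zero hd hM) mdet_one ?_
    rw [LA.mul _ _ hd hM, LA.mul _ _ hM mdet_one, hwM, eA1,
      show LA.ψ (((-1, 0) : V3), one3) = z⁻¹ by
        rw [← eA1]; exact LA.inv mdet_one mdet_one (by decide)]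
    rw [← hv0z, inv_eq_of_mul_eq_one_right hv02]
  have ca : amul (w, M) ((0, 1), one3) = amul ((0, 1), one3) (w, M) := by
    refine (LA.comm_iff hM mdet_one).1 ?_
    rw [hwM, eA2]; exact mul_inv_eq_iff_eq_mul.1 hav
  have tab : ∀ (w : V3) (M : M3), mdet M ≠ 0 → amul (w, M) (w, M) = aone →
      amul (amul (w, M) ((1, 0), one3)) (w, M) = ((-1, 0), one3) →
      amul (w, M) ((0, 1), one3) = amul ((0, 1), one3) (w, M) →
      ∃ c : ZMod 3, amul ((c, 0), one3) (w, M) = (0, mD) := by decide +kernel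
  obtain ⟨c, hc⟩ := tab w M hM c2 cz ca
  set v := LA.ψ (0, mD) with hvdef
  have hvB : v ∈ B := by
    rw [hvdef, ← hc, LA.mul _ _ mdet_one hM, hwM, hLA]
    refine mul_mem ?_ hv0B
    simp only [tv, zp_zero, mul_one]
    exact zp_mem (hB.le hzQB) c
  have hdD : mdet mD ≠ 0 := by decide
  have hdE : mdet mE ≠ 0 := by decide
  have hv2 : v * v = 1 := by rw [hvdef, ← LA.mul _ _ hdD hdD, ← LA.one]; congr 1
  have hvi : v⁻¹ = v := inv_eq_of_mul_eq_one_right hv2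
  have conjA : ∀ (p q r r' : Af), mdet p.2 ≠ 0 → mdet q.2 ≠ 0 → mdet r.2 ≠ 0 → mdet r'.2 ≠ 0 →
      amul p q = amul r' p → amul r r' = aone → LA.ψ p * LA.ψ q * (LA.ψ p)⁻¹ = (LA.ψ r)⁻¹ := by
    intro p q r r' hp hq hr hr' e1 e2
    rw [← LA.mul _ _ hp hq, e1, LA.mul _ _ hr' hp, mul_inv_cancel_right]
    exact LA.inv hr hr' e2
  have hvz : v * z * v⁻¹ = z⁻¹ := by
    rw [← eA1]
    exact conjA (0, mD) ((1, 0), one3) ((1, 0), one3) ((-1, 0), one3) hdD mdet_one mdet_one mdet_one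
      (by decide) (by decide)
  have hvb : v * b⁻¹ * v⁻¹ = b⁻¹⁻¹ := by
    rw [← conj_inv]
    congr 1
    exact conjA (0, mD) (0, mE) (0, mE) (0, mm mE mE) hdD hdE hdE (by decide) (by decide) (by decide)
  have hbiz : b⁻¹ ∉ Subgroup.zpowers z := fun h => hbz (by simpa using inv_mem h)
  obtain ⟨LB, hLB, hLBv⟩ := hB.exists_lift hzQB (inv_mem hbQ) hz1 hbiz hvB hv2 hvz hvb
  have eB1 : LB.ψ ((1, 0), one3) = z := by rw [hLB, (hB.tv_basis (z := z) (x := b⁻¹)).1]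
  have eB2 : LB.ψ ((0, 1), one3) = b⁻¹ := by rw [hLB, (hB.tv_basis (z := z) (x := b⁻¹)).2]
  have ea : LB.ψ (0, mE) = a := by
    refine (LB.eq_of_act (M := mE) (hQA.trans (hPle.trans inf_le_right) haQ) ?_ ?_ ?_).symm
    · rw [hLBv, hvdef, ← eA2]; exact (LA.comm_iff mdet_one hdD).2 (by decide)
    · rw [eB1, show LB.ψ (mE.1, one3) = z from eB1, hA.comm a haQ z hzQA, mul_inv_cancel_right]
    · have e : LB.ψ (mE.2, one3) = z * b⁻¹ := by
        rw [hLB, show (mE.2 : V3) = (1, 0) + (0, 1) by decide, hB.tv_add hzQB (inv_mem hbQ),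
          (hB.tv_basis (z := z) (x := b⁻¹)).1, (hB.tv_basis (z := z) (x := b⁻¹)).2]
      rw [eB2, e, ← eA1, ← eA2, ← LA.inv mdet_one mdet_one (p := ((0, 1), one3)) (q := ((0, -1), one3)) (by decide),
        hbdef, ← LA.inv hdE (by decide) (p := (0, mE)) (q := (0, mm mE mE)) (by decide),
        ← LA.mul _ _ mdet_one (by decide), ← LA.mul _ _ (by decide) mdet_one, ← LA.mul _ _ mdet_one (by decide)]
      congr 1
  have eu : LB.ψ (0, mD) = ua := by
    refine (LB.eq_of_act (M := mD) huaB ?_ ?_ ?_).symm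
    · rw [hLBv, hvdef, ← hLAu]; exact (LA.comm_iff (by decide) hdD).2 (by decide)
    · rw [eB1, huaz, ← eB1]
      exact (LB.inv mdet_one mdet_one (p := ((1, 0), one3)) (q := (mD.1, one3)) (by decide)).symm
    · rw [eB2, show LB.ψ (mD.2, one3) = b⁻¹ from eB2, hbdef, ← hLAu, ← conj_inv]
      congr 1
      rw [((LA.comm_iff (by decide) hdE).2 (by decide) : Commute (LA.ψ (0, neg3)) (LA.ψ (0, mE))).eq,
        mul_inv_cancel_right]
  refine ⟨{
    A := A
    B := B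
    LA := LA
    LB := LB
    hz := (by rw [eB1, eA1])
    hb := ?_
    ha := (by rw [ea, eA2])
    hv := hLBv
    hu := (by rw [eu, hLAu])
    top := hgen
    ne_top := ?_
    cent := fun g hg => ?_ }⟩
  · rw [show LB.ψ (((0, -1) : V3), one3) = (LB.ψ ((0, 1), one3))⁻¹ from LB.inv mdet_one mdet_one (by decide),
      eB2, inv_inv]
  · intro e
    have hBA : B = A := Subgroup.eq_of_le_of_card_ge (e ▸ le_top) (by rw [hA.card_A, hB.card_A])
    have hmap : ∀ g ∈ A, QA.map (MulAut.conj g).toMonoidHom = QA := fun g hg =>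
      Subgroup.eq_of_le_of_card_ge (by rintro _ ⟨q, hq, rfl⟩; exact hA.norm g hg q hq)
        (by rw [Subgroup.card_map_of_injective (MulAut.conj g).injective])
    have h0 := hcore QA (hQA.trans hPle) hmap (hBA ▸ hmap)
    have := hA.card_Q
    rw [h0, Subgroup.card_bot] at this
    omega
  · rw [eA1] at hg
    exact (hcz g hg).1

end Cfsg.Lib.AmalgamM12
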