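import Cfsg.Agent.Lib.AmalgamM12.Aff

/-!
# The frame of two affine sides, its seven letters and the check of relations

The letters are `z a b u v j k`; the first six lie in the first side, all but `j` in the second.
-/

set_option autoImplicit false

namespace Cfsg.Lib.AmalgamM12

open Cfsg.Lib.J3Type (wval lval invL idL wval_nil wval_cons wval_append lval_invL)

universe u

/-- The basic transvection. -/
def mE : M3 := ((1, 0), (1, 1))
/-- The reflection. -/
def mD : M3 := ((-1, 0), (0, 1))
/-- The element of order four. -/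
def mJ : M3 := ((0, 1), (-1, 0))

/-- Two sides with a common part written in both coordinates. -/
structure Frame (G : Type u) [Group G] where
  /-- The first side. -/
  A : Subgroup G
  /-- The second side. -/
  B : Subgroup G
  /-- Coordinates of the first side. -/
  LA : Lift A
  /-- Coordinates of the second side. -/
  LB : Lift B
  hz : LB.ψ ((1, 0), one3) = LA.ψ ((1, 0), one3)
  hb : LB.ψ ((0, -1), one3) = LA.ψ (0, mE)
  ha : LB.ψ (0, mE) = LA.ψ ((0, 1), one3)
  hv : LB.ψ (0, neg3) = LA.ψ (0, mD)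
  hu : LB.ψ (0, mD) = LA.ψ (0, neg3)
  top : A ⊔ B = ⊤
  ne_top : A ≠ ⊤
  cent : ∀ g : G, Commute g (LA.ψ ((1, 0), one3)) → g ∈ A

/-- Coordinates of the letters of the first side. -/
def cA (l : ℕ) : Af :=
  [((1, 0), one3), ((-1, 0), one3), ((0, 1), one3), ((0, -1), one3), (0, mE), (0, ((1, 0), (-1, 1))),
    (0, neg3), (0, neg3), (0, mD), (0, mD), (0, mJ), (0, ((0, -1), (1, 0)))].getD l aone

/-- Coordinates of the letters of the second side; the letters `12`, `13` take the places `10`, `11`. -/
def cB (l : ℕ) : Af :=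
  [((1, 0), one3), ((-1, 0), one3), (0, mE), (0, ((1, 0), (-1, 1))), ((0, -1), one3), ((0, 1), one3),
    (0, mD), (0, mD), (0, neg3), (0, neg3), aone, aone, (0, mJ), (0, ((0, -1), (1, 0)))].getD l aone

/-- The value of a word in coordinates. -/
def aev (c : ℕ → Af) (w : List ℕ) : Af := w.foldr (fun l p => amul (c l) p) aone

/-- Equality of affine maps, evaluated by the kernel. -/
def aeq (p q : Af) : Bool := decide (p = q)

/-- The letters of the first side. -/
def inA (w : List ℕ) : Bool := w.all fun l => Nat.blt l 12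

/-- The letters of the second side. -/
def inB (w : List ℕ) : Bool := w.all fun l => Nat.blt l 14 && !(Nat.beq l 10 || Nat.beq l 11)

theorem cA_det : ∀ l < 12, mdet (cA l).2 ≠ 0 := by decide +kernel

theorem cB_det : ∀ l < 14, mdet (cB l).2 ≠ 0 := by decide +kernel

theorem cA_inv : ∀ i < 6, amul (cA (2 * i)) (cA (2 * i + 1)) = aone := by decide +kernel

theorem cB_inv : ∀ i < 7, amul (cB (2 * i)) (cB (2 * i + 1)) = aone := by decide +kernel

namespace Frame

variable {G : Type u} [Group G] (F : Frame G)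

/-- The seven letters. -/
def g (i : ℕ) : G := if i = 6 then F.LB.ψ (0, mJ) else F.LA.ψ (cA (2 * i))

/-- The element `z`. -/
def z : G := F.g 0
/-- The element `u`. -/
def u : G := F.g 3
/-- The involution `t = u v`. -/
def t : G := F.g 3 * F.g 4

theorem g_LB (i : ℕ) (hi : i < 7) (h : i ≠ 5) : F.g i = F.LB.ψ (cB (2 * i)) := by
  interval_cases i
  · exact F.hz.symm
  · exact F.ha.symm
  · exact F.hb.symm
  · exact F.hu.symm
  · exact F.hv.symm
  · exact absurd rfl h
  · rfl

theorem lval_A (l : ℕ) (hl : l < 12) : lval F.g l = F.LA.ψ (cA l) := by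
  rw [lval, if_neg (show ¬ idL ≤ l by unfold idL; omega)]
  have e : F.g (l / 2) = F.LA.ψ (cA (2 * (l / 2))) := if_neg (by omega)
  rcases Nat.mod_two_eq_zero_or_one l with h | h
  · rw [if_pos h, e, show 2 * (l / 2) = l by omega]
  · rw [if_neg (by omega), e]
    refine (F.LA.inv (cA_det _ (by omega)) (cA_det _ hl) ?_).symm
    conv => lhs; arg 2; rw [show l = 2 * (l / 2) + 1 by omega]
    exact cA_inv _ (by omega)

theorem lval_B (l : ℕ) (hl : l < 14) (h10 : l ≠ 10) (h11 : l ≠ 11) : lval F.g l = F.LB.ψ (cB l) := by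
  rw [lval, if_neg (show ¬ idL ≤ l by unfold idL; omega)]
  have e : F.g (l / 2) = F.LB.ψ (cB (2 * (l / 2))) := F.g_LB _ (by omega) (by omega)
  rcases Nat.mod_two_eq_zero_or_one l with h | h
  · rw [if_pos h, e, show 2 * (l / 2) = l by omega]
  · rw [if_neg (by omega), e]
    refine (F.LB.inv (cB_det _ (by omega)) (cB_det _ hl) ?_).symm
    conv => lhs; arg 2; rw [show l = 2 * (l / 2) + 1 by omega]
    exact cB_inv _ (by omega)

theorem wval_lift {K : Subgroup G} (L : Lift K) (c : ℕ → Af) (w : List ℕ)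
    (h : ∀ l ∈ w, lval F.g l = L.ψ (c l) ∧ mdet (c l).2 ≠ 0) :
    wval F.g w = L.ψ (aev c w) ∧ mdet (aev c w).2 ≠ 0 := by
  induction w with
  | nil => exact ⟨(L.one).symm, mdet_one⟩
  | cons l w ih =>
    obtain ⟨e, hd⟩ := ih fun m hm => h m (List.mem_cons_of_mem _ hm)
    obtain ⟨el, hl⟩ := h l (List.mem_cons_self ..)
    exact ⟨by rw [wval_cons, e, el, ← L.mul _ _ hl hd]; rfl,
      by show mdet (mm (c l).2 (aev c w).2) ≠ 0; rw [mdet_mm]; exact mul_ne_zero hl hd⟩

theorem wval_A {w : List ℕ} (hw : inA w = true) : wval F.g w = F.LA.ψ (aev cA w) ∧ mdet (aev cA w).2 ≠ 0 :=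
  F.wval_lift F.LA cA w fun l hl => by
    have h : l < 12 := Nat.lt_of_succ_le (Nat.le_of_ble_eq_true (List.all_eq_true.1 hw l hl))
    exact ⟨F.lval_A l h, cA_det l h⟩

theorem wval_B {w : List ℕ} (hw : inB w = true) : wval F.g w = F.LB.ψ (aev cB w) ∧ mdet (aev cB w).2 ≠ 0 :=
  F.wval_lift F.LB cB w fun l hl => by
    have h0 := List.all_eq_true.1 hw l hl
    simp only [Bool.and_eq_true, Bool.not_eq_true', Bool.or_eq_false_iff] at h0
    have h : l < 14 := Nat.lt_of_succ_le (Nat.le_of_ble_eq_true h0.1)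
    exact ⟨F.lval_B l h (Nat.ne_of_beq_eq_false h0.2.1) (Nat.ne_of_beq_eq_false h0.2.2), cB_det l h⟩

/-- Two words in a side with the same coordinates are equal. -/
def sameSide (w w' : List ℕ) : Bool :=
  (inA w && inA w' && aeq (aev cA w) (aev cA w')) || (inB w && inB w' && aeq (aev cB w) (aev cB w'))

theorem wval_eq {w w' : List ℕ} (h : sameSide w w' = true) : wval F.g w = wval F.g w' := by
  simp only [sameSide, Bool.or_eq_true, Bool.and_eq_true, aeq, decide_eq_true_eq] at h
  rcases h with ⟨⟨h1, h2⟩, e⟩ | ⟨⟨h1, h2⟩, e⟩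
  · rw [(F.wval_A h1).1, (F.wval_A h2).1, e]
  · rw [(F.wval_B h1).1, (F.wval_B h2).1, e]

theorem wval_ne {w w' : List ℕ} (h1 : inA w = true) (h2 : inA w' = true) (h : aev cA w ≠ aev cA w') :
    wval F.g w ≠ wval F.g w' := fun e => by
  rw [(F.wval_A h1).1, (F.wval_A h2).1] at e
  exact h (F.LA.inj _ _ (F.wval_A h1).2 (F.wval_A h2).2 e)

end Frame

/-- Free reduction. -/
def red (w : List ℕ) : List ℕ :=
  w.foldr (fun l o => match o with
    | [] => [l]
    | x :: o' => bif Nat.beq (invL l) x then o' else l :: x :: o') []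

/-- The inverse word. -/
def winv (w : List ℕ) : List ℕ := (w.map invL).reverse

/-- Equality of words. -/
def weq : List ℕ → List ℕ → Bool
  | [], [] => true
  | a :: x, b :: y => Nat.beq a b && weq x y
  | _, _ => false

/-- A rule follows from the relators. -/
def okRule (R : List (List ℕ)) (w : List ℕ) : Bool :=
  (red w).isEmpty || R.any fun r => (List.range r.length).any fun n =>
    weq (r.drop n ++ r.take n) w || weq (winv (r.drop n ++ r.take n)) w

theorem weq_sound : ∀ {x y : List ℕ}, weq x y = true → x = y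
  | [], [], _ => rfl
  | a :: x, b :: y, h => by
    simp only [weq, Bool.and_eq_true] at h
    rw [Nat.eq_of_beq_eq_true h.1, weq_sound h.2]
  | [], _ :: _, h => by simp [weq] at h
  | _ :: _, [], h => by simp [weq] at h

theorem wval_red {G : Type*} [Group G] (g : ℕ → G) (w : List ℕ) : wval g (red w) = wval g w := by
  induction w with
  | nil => rfl
  | cons l w ih =>
    rw [wval_cons, ← ih]
    show wval g (List.foldr _ [] (l :: w)) = _
    rw [List.foldr_cons]
    change wval g (match red w with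
      | [] => [l]
      | x :: o' => bif Nat.beq (invL l) x then o' else l :: x :: o') = _
    rcases red w with - | ⟨x, o⟩
    · rw [wval_cons, wval_nil]
    · dsimp only
      cases hb : Nat.beq (invL l) x
      · rfl
      · rw [cond_true, wval_cons, ← Nat.eq_of_beq_eq_true hb, lval_invL, mul_inv_cancel_left]

theorem wval_winv {G : Type*} [Group G] (g : ℕ → G) (w : List ℕ) : wval g (winv w) = (wval g w)⁻¹ := by
  induction w with
  | nil => simp [winv, wval_nil]
  | cons l w ih =>
    rw [wval_cons, mul_inv_rev, ← ih, winv, winv, List.map_cons, List.reverse_cons, wval_append, wval_cons,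
      wval_nil, mul_one, lval_invL]

theorem wval_okRule {G : Type*} [Group G] (g : ℕ → G) {R : List (List ℕ)} (hR : ∀ r ∈ R, wval g r = 1)
    {w : List ℕ} (h : okRule R w = true) : wval g w = 1 := by
  simp only [okRule, Bool.or_eq_true, List.any_eq_true, List.isEmpty_iff] at h
  rcases h with h | ⟨r, hr, n, -, h⟩
  · rw [← wval_red, h, wval_nil]
  · have e : wval g (r.drop n ++ r.take n) = 1 := by
      have e0 := hR r hr
      rw [← List.take_append_drop n r, wval_append] at e0
      rw [wval_append]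
      exact mul_eq_one_comm.1 e0
    rcases h with h | h
    · rw [← weq_sound h, e]
    · rw [← weq_sound h, wval_winv, e, inv_one]

/-- The relators of the two sides. -/
def baseRels : List (List ℕ) :=
  [[0, 0, 0],
    [2, 2, 2],
    [4, 4, 4],
    [6, 6],
    [8, 8],
    [6, 8, 6, 8],
    [0, 2, 1, 3],
    [0, 4, 1, 5],
    [4, 2, 5, 1, 3],
    [6, 0, 7, 0],
    [6, 2, 7, 2],
    [6, 4, 7, 5],
    [8, 0, 9, 0],
    [8, 2, 9, 3],
    [8, 4, 9, 4],
    [10, 10, 7],
    [10, 0, 11, 3],
    [10, 2, 11, 0],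
    [10, 8, 11, 8, 6],
    [10, 4, 10, 4, 10, 4, 6],
    [10, 6, 11, 7],
    [12, 12, 9],
    [12, 0, 13, 4],
    [12, 5, 13, 0],
    [12, 6, 13, 6, 8],
    [12, 2, 12, 2, 12, 2, 8],
    [12, 8, 13, 9]]

theorem baseRels_side : (baseRels.all fun r => Frame.sameSide r []) = true := by decide +kernel

theorem Frame.baseRels_one {G : Type u} [Group G] (F : Frame G) : ∀ r ∈ baseRels, wval F.g r = 1 :=
  fun r hr => (F.wval_eq (List.all_eq_true.1 baseRels_side r hr)).trans (wval_nil _)

end Cfsg.Lib.AmalgamM12
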