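import Cfsg.Agent.Lib.AmalgamM12.KillAData

/-!
Kernel checks of the certificate `killAC`.
-/

set_option autoImplicit false
set_option maxRecDepth 100000

namespace Cfsg.Lib.AmalgamM12

open Cfsg.Lib.J3Type

theorem killAC_facts0 : factsOK killAC 0 2000 = true := by decide +kernel

theorem killAC_facts1 : factsOK killAC 2000 2000 = true := by decide +kernel

theorem killAC_facts2 : factsOK killAC 4000 2000 = true := by decide +kernel

theorem killAC_facts3 : factsOK killAC 6000 2000 = true := by decide +kernel

theorem killAC_facts4 : factsOK killAC 8000 2000 = true := by decide +kernel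

theorem killAC_facts5 : factsOK killAC 10000 2000 = true := by decide +kernel

theorem killAC_facts6 : factsOK killAC 12000 684 = true := by decide +kernel

theorem killAC_rows0 : rowsOK killAC 0 1 = true := by decide +kernel

theorem killAC_fact_ok : ∀ i < killAC.nFacts, factOK killAC i = true := by
  intro i hi
  replace hi : i < 12684 := hi
  by_cases h0 : i < 2000
  · exact factOK_of_factsOK killAC_facts0 (by omega) (by omega)
  by_cases h1 : i < 4000
  · exact factOK_of_factsOK killAC_facts1 (by omega) (by omega)
  by_cases h2 : i < 6000
  · exact factOK_of_factsOK killAC_facts2 (by omega) (by omega)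
  by_cases h3 : i < 8000
  · exact factOK_of_factsOK killAC_facts3 (by omega) (by omega)
  by_cases h4 : i < 10000
  · exact factOK_of_factsOK killAC_facts4 (by omega) (by omega)
  by_cases h5 : i < 12000
  · exact factOK_of_factsOK killAC_facts5 (by omega) (by omega)
  by_cases h6 : i < 12684
  · exact factOK_of_factsOK killAC_facts6 (by omega) (by omega)
  omega

theorem killAC_row_ok : ∀ c < killAC.nLive, rowOK killAC c = true := by
  intro c hc
  replace hc : c < 1 := hc
  by_cases h0 : c < 1
  · exact rowOK_of_rowsOK killAC_rows0 (by omega) (by omega)
  omega

theorem killAC_live_zero : killAC.live.get 15 0 = 0 := by decide +kernel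

end Cfsg.Lib.AmalgamM12
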