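import Cfsg.Agent.Lib.AmalgamM12.KillBData

/-!
Kernel checks of the certificate `killBC`.
-/

set_option autoImplicit false
set_option maxRecDepth 100000

namespace Cfsg.Lib.AmalgamM12

open Cfsg.Lib.J3Type

theorem killBC_facts0 : factsOK killBC 0 2000 = true := by decide +kernel

theorem killBC_facts1 : factsOK killBC 2000 2000 = true := by decide +kernel

theorem killBC_facts2 : factsOK killBC 4000 852 = true := by decide +kernel

theorem killBC_rows0 : rowsOK killBC 0 1 = true := by decide +kernel

theorem killBC_fact_ok : ∀ i < killBC.nFacts, factOK killBC i = true := by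
  intro i hi
  replace hi : i < 4852 := hi
  by_cases h0 : i < 2000
  · exact factOK_of_factsOK killBC_facts0 (by omega) (by omega)
  by_cases h1 : i < 4000
  · exact factOK_of_factsOK killBC_facts1 (by omega) (by omega)
  by_cases h2 : i < 4852
  · exact factOK_of_factsOK killBC_facts2 (by omega) (by omega)
  omega

theorem killBC_row_ok : ∀ c < killBC.nLive, rowOK killBC c = true := by
  intro c hc
  replace hc : c < 1 := hc
  by_cases h0 : c < 1
  · exact rowOK_of_rowsOK killBC_rows0 (by omega) (by omega)
  omega

theorem killBC_live_zero : killBC.live.get 15 0 = 0 := by decide +kernel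

end Cfsg.Lib.AmalgamM12
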