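import Cfsg.Agent.Lib.AmalgamM12.LThreeData

/-!
Kernel checks of the certificate `lCert`.
-/

set_option autoImplicit false
set_option maxRecDepth 100000

namespace Cfsg.Lib.AmalgamM12

open Cfsg.Lib.J3Type

theorem lCert_facts0 : factsOK lCert 0 2000 = true := by decide +kernel

theorem lCert_facts1 : factsOK lCert 2000 2000 = true := by decide +kernel

theorem lCert_facts2 : factsOK lCert 4000 2000 = true := by decide +kernel

theorem lCert_facts3 : factsOK lCert 6000 2000 = true := by decide +kernel

theorem lCert_facts4 : factsOK lCert 8000 2000 = true := by decide +kernel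

theorem lCert_facts5 : factsOK lCert 10000 2000 = true := by decide +kernel

theorem lCert_facts6 : factsOK lCert 12000 2000 = true := by decide +kernel

theorem lCert_facts7 : factsOK lCert 14000 599 = true := by decide +kernel

theorem lCert_rows0 : rowsOK lCert 0 13 = true := by decide +kernel

theorem lCert_fact_ok : ∀ i < lCert.nFacts, factOK lCert i = true := by
  intro i hi
  replace hi : i < 14599 := hi
  by_cases h0 : i < 2000
  · exact factOK_of_factsOK lCert_facts0 (by omega) (by omega)
  by_cases h1 : i < 4000
  · exact factOK_of_factsOK lCert_facts1 (by omega) (by omega)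
  by_cases h2 : i < 6000
  · exact factOK_of_factsOK lCert_facts2 (by omega) (by omega)
  by_cases h3 : i < 8000
  · exact factOK_of_factsOK lCert_facts3 (by omega) (by omega)
  by_cases h4 : i < 10000
  · exact factOK_of_factsOK lCert_facts4 (by omega) (by omega)
  by_cases h5 : i < 12000
  · exact factOK_of_factsOK lCert_facts5 (by omega) (by omega)
  by_cases h6 : i < 14000
  · exact factOK_of_factsOK lCert_facts6 (by omega) (by omega)
  by_cases h7 : i < 14599
  · exact factOK_of_factsOK lCert_facts7 (by omega) (by omega)
  omega

theorem lCert_row_ok : ∀ c < lCert.nLive, rowOK lCert c = true := by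
  intro c hc
  replace hc : c < 13 := hc
  by_cases h0 : c < 13
  · exact rowOK_of_rowsOK lCert_rows0 (by omega) (by omega)
  omega

theorem lCert_live_zero : lCert.live.get 15 0 = 0 := by decide +kernel

end Cfsg.Lib.AmalgamM12
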