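import Cfsg.Agent.Lib.AmalgamM12.Frame
import Cfsg.Agent.S3331
import Cfsg.Agent.Lib.Dickson.OddProduct

/-!
# The centraliser of the involution `t`

Modulo `t` the element `z` is self-centralising, so the two elements of order four built from the Weyl
elements lie in a normal subgroup on which `z` is fixed-point-free.
-/

set_option autoImplicit false
set_option linter.style.haveILetI false
set_option linter.unusedSectionVars false
set_option synthInstance.maxSize 4000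
set_option synthInstance.maxHeartbeats 400000

namespace Cfsg.Lib.AmalgamM12

open Cfsg.Lib.J3Type (wval lval invL idL wval_nil wval_cons wval_append lval_invL)

universe u

/-- Two commuting conjugate involutions centralised by an inverting involution are trivial. -/
def NoInv (Q : Type*) [Group Q] : Prop :=
  ∀ x : Q, x ^ 3 = 1 → x ≠ 1 → ∀ y : Q, y * y = 1 → y * x = x⁻¹ * y →
    ∀ e : Q, e * e = 1 → e * y = y * e → e * (x * e * x⁻¹) = x * e * x⁻¹ * e → e = 1

theorem noInv_perm : NoInv (Equiv.Perm (Fin 3)) := by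
  unfold NoInv
  decide +kernel

theorem noInv_alt : NoInv (alternatingGroup (Fin 5)) := by
  unfold NoInv
  decide +kernel

theorem NoInv.congr {P Q : Type*} [Group P] [Group Q] (h : NoInv P) (e : Q ≃* P) : NoInv Q := by
  intro x hx hx1 y hy hyx a ha hay hax
  refine e.injective ?_
  rw [map_one]
  refine h (e x) (by rw [← map_pow, hx, map_one]) (fun he => hx1 (e.injective (by rw [he, map_one])))
    (e y) (by rw [← map_mul, hy, map_one]) (by rw [← map_mul, hyx, map_mul, map_inv]) (e a)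
    (by rw [← map_mul, ha, map_one]) (by rw [← map_mul, hay, map_mul]) ?_
  rw [← map_inv, ← map_mul, ← map_mul, ← map_mul, hax, map_mul]

theorem noInv_three {Q : Type*} [Group Q] (h : Nat.card Q = 3) : NoInv Q := by
  intro x _ _ y _ _ e he _ _
  haveI : Finite Q := Nat.finite_of_card_ne_zero (by omega)
  have h3 : e ^ 3 = 1 := by rw [← h]; exact pow_card_eq_one'
  rwa [pow_three, he, mul_one] at h3

/-- The letters of `i = k j k⁻¹`. -/
def iW : List ℕ := [12, 10, 13]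
/-- The letters of `i' = j k j⁻¹`. -/
def jW : List ℕ := [10, 12, 11]
/-- The letters of `t`. -/
def tW : List ℕ := [6, 8]

theorem side_facts :
    Frame.sameSide [6, 8] [8, 6] = true ∧ Frame.sameSide [6, 6] [] = true ∧ Frame.sameSide [8, 8] [] = true ∧
    Frame.sameSide [6, 0, 7] [1] = true ∧ Frame.sameSide [0, 0, 0] [] = true ∧
    Frame.sameSide [10, 10] [6] = true ∧ Frame.sameSide [12, 12] [8] = true ∧
    Frame.sameSide [12, 6, 13] tW = true ∧ Frame.sameSide [10, 8, 11] tW = true ∧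
    Frame.sameSide [13, 6, 8, 12] [6] = true ∧ Frame.sameSide [11, 6, 8, 10] [8] = true ∧
    Frame.sameSide [13, 6, 12] tW = true ∧ Frame.sameSide [11, 6, 10] [6] = true ∧
    Frame.sameSide [10, 6, 8, 11] [8] = true ∧ Frame.sameSide [12, 8, 13] [8] = true ∧
    Frame.sameSide [12, 4, 13] [0] = true ∧ Frame.sameSide [10, 3, 11] [0] = true ∧
    (Frame.sameSide [10, 4, 10, 5, 11, 4, 11, 5] [] || Frame.sameSide [10, 4, 10, 5, 11, 4, 11, 5] [6]) = true ∧
    (Frame.sameSide [12, 3, 12, 2, 13, 3, 13, 2] [] || Frame.sameSide [12, 3, 12, 2, 13, 3, 13, 2] [8]) = true := by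
  decide +kernel

theorem cent_table : ∀ p : Af, mdet p.2 ≠ 0 →
    amul p ((1, 0), one3) = amul ((1, 0), one3) p → amul p (aev cA tW) = amul (aev cA tW) p →
    ∃ e : Fin 3, ∃ f : Fin 2, p = aev cA (List.replicate e.1 0 ++ (List.replicate f.1 tW).flatten) := by
  decide +kernel

theorem tW_facts : aev cA tW ≠ aev cA [] ∧ aev cA [0] ≠ aev cA [] ∧ aev cA [0] ≠ aev cA tW ∧
    aev cA [6] ≠ aev cA [] ∧ aev cA [6] ≠ aev cA tW := by decide +kernel

namespace Frame

variable {G : Type u} [Group G] (F : Frame G)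

/-- The element `i`. -/
def i : G := wval F.g iW
/-- The element `i'`. -/
def i' : G := wval F.g jW

theorem wval_tW : wval F.g tW = F.t := by
  simp [tW, wval, lval, idL, Frame.t]

theorem word_facts : F.t * F.t = 1 ∧ F.u * F.u = 1 ∧ F.u * F.z * F.u⁻¹ = F.z⁻¹ ∧ F.z ^ 3 = 1 ∧
    Commute F.t F.u ∧ F.t ≠ 1 ∧ F.z ≠ 1 ∧ F.z ≠ F.t ∧ F.u ≠ 1 ∧ F.u ≠ F.t := by
  obtain ⟨huv, huu, hvv, huz, hzz, -⟩ := side_facts
  have a1 := F.wval_eq huv
  have a2 := F.wval_eq huu
  have a3 := F.wval_eq hvv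
  have a4 := F.wval_eq huz
  have a5 := F.wval_eq hzz
  obtain ⟨n1, n2, n3, n4, n5⟩ := tW_facts
  have b1 := F.wval_ne (w := tW) (w' := []) (by decide) (by decide) n1
  have b2 := F.wval_ne (w := [0]) (w' := []) (by decide) (by decide) n2
  have b3 := F.wval_ne (w := [0]) (w' := tW) (by decide) (by decide) n3
  have b4 := F.wval_ne (w := [6]) (w' := []) (by decide) (by decide) n4
  have b5 := F.wval_ne (w := [6]) (w' := tW) (by decide) (by decide) n5
  rw [F.wval_tW] at b1 b3 b5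
  simp [wval, lval, idL] at a1 a2 a3 a4 a5 b1 b2 b3 b4 b5
  refine ⟨?_, a2, ?_, ?_, ?_, b1, b2, b3, b4, b5⟩
  · show F.g 3 * F.g 4 * (F.g 3 * F.g 4) = 1
    nth_rewrite 2 [a1]
    rw [mul_assoc, ← mul_assoc (F.g 4), a3, one_mul, a2]
  · show F.g 3 * F.g 0 * (F.g 3)⁻¹ = (F.g 0)⁻¹
    rw [mul_assoc]; exact a4
  · rw [pow_three]; exact a5
  · show F.g 3 * F.g 4 * F.g 3 = F.g 3 * (F.g 3 * F.g 4)
    rw [mul_assoc]; exact congrArg (F.g 3 * ·) a1.symm

theorem weyl_facts : F.i * F.i = F.t ∧ F.i' * F.i' = F.t ∧ Commute F.i F.t ∧ Commute F.i' F.t ∧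
    F.i * F.u * F.i⁻¹ = F.u * F.t ∧ F.i' * F.u * F.i'⁻¹ = F.u * F.t ∧
    (F.i * (F.z * F.i * F.z⁻¹) = F.z * F.i * F.z⁻¹ * F.i ∨
      F.i * (F.z * F.i * F.z⁻¹) = F.t * (F.z * F.i * F.z⁻¹ * F.i)) ∧
    (F.i' * (F.z * F.i' * F.z⁻¹) = F.z * F.i' * F.z⁻¹ * F.i' ∨
      F.i' * (F.z * F.i' * F.z⁻¹) = F.t * (F.z * F.i' * F.z⁻¹ * F.i')) := by
  obtain ⟨huv, huu, -, -, -, hjj, hkk, hku, hjv, hKtk, hJtj, hKuk, hJuj, hjtj, hkvk, hkbk, hjaj, hcA, hcB⟩ := side_facts
  have a1 := F.wval_eq huv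
  have a2 := F.wval_eq huu
  have a3 := F.wval_eq hjj
  have a4 := F.wval_eq hkk
  have a5 := F.wval_eq hku
  have a6 := F.wval_eq hjv
  have a7 := F.wval_eq hKtk
  have a8 := F.wval_eq hJtj
  have a9 := F.wval_eq hKuk
  have a10 := F.wval_eq hJuj
  have a11 := F.wval_eq hjtj
  have a12 := F.wval_eq hkvk
  have a13 := F.wval_eq hkbk
  have a14 := F.wval_eq hjaj
  rw [F.wval_tW] at a5 a6 a9
  simp only [Bool.or_eq_true] at hcA hcB
  have a15 := hcA.imp F.wval_eq F.wval_eq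
  have a16 := hcB.imp F.wval_eq F.wval_eq
  simp [wval, lval, idL] at a1 a2 a3 a4 a5 a6 a7 a8 a9 a10 a11 a12 a13 a14 a15 a16
  have ei : F.i = F.g 6 * F.g 5 * (F.g 6)⁻¹ := by simp [Frame.i, iW, wval, lval, idL, mul_assoc]
  have ei' : F.i' = F.g 5 * F.g 6 * (F.g 5)⁻¹ := by simp [Frame.i', jW, wval, lval, idL, mul_assoc]
  have eu : F.u = F.g 3 := rfl
  have et : F.t = F.g 3 * F.g 4 := rfl
  have ez : F.z = F.g 0 := rfl
  have ev : F.u * F.t = F.g 4 := by rw [eu, et, ← mul_assoc, a2, one_mul]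
  have hi2 : F.i * F.i = F.t := by
    rw [ei]; conv_rhs => rw [← a5, ← a3]
    group
  have hi'2 : F.i' * F.i' = F.t := by
    rw [ei']; conv_rhs => rw [← a6, ← a4]
    group
  have b9 : (F.g 6)⁻¹ * F.g 3 * F.g 6 = F.t := by rw [mul_assoc]; exact a9
  have b10 : (F.g 5)⁻¹ * F.g 3 * F.g 5 = F.g 3 := by rw [mul_assoc]; exact a10
  have b5 : F.g 6 * F.g 3 * (F.g 6)⁻¹ = F.t := by rw [mul_assoc]; exact a5
  have b11 : F.g 5 * F.t * (F.g 5)⁻¹ = F.g 4 := by rw [et]; simpa only [mul_assoc] using a11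
  have b12 : F.g 6 * F.g 4 * (F.g 6)⁻¹ = F.g 4 := by rw [mul_assoc]; exact a12
  have hiu : F.i * F.u * F.i⁻¹ = F.u * F.t := by
    rw [ev, ei, eu, show F.g 6 * F.g 5 * (F.g 6)⁻¹ * F.g 3 * (F.g 6 * F.g 5 * (F.g 6)⁻¹)⁻¹ =
      F.g 6 * (F.g 5 * ((F.g 6)⁻¹ * F.g 3 * F.g 6) * (F.g 5)⁻¹) * (F.g 6)⁻¹ by group, b9, b11, b12]
  have hi'u : F.i' * F.u * F.i'⁻¹ = F.u * F.t := by
    rw [ev, ei', eu, show F.g 5 * F.g 6 * (F.g 5)⁻¹ * F.g 3 * (F.g 5 * F.g 6 * (F.g 5)⁻¹)⁻¹ =
      F.g 5 * (F.g 6 * ((F.g 5)⁻¹ * F.g 3 * F.g 5) * (F.g 6)⁻¹) * (F.g 5)⁻¹ by group, b10, b5, b11]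
  refine ⟨hi2, hi'2, ?_, ?_, hiu, hi'u, ?_, ?_⟩
  · rw [← hi2]; exact (Commute.refl _).mul_right (Commute.refl _)
  · rw [← hi'2]; exact (Commute.refl _).mul_right (Commute.refl _)
  · have hzc : F.z * F.i * F.z⁻¹ = F.g 6 * (F.g 2 * F.g 5 * (F.g 2)⁻¹) * (F.g 6)⁻¹ := by
      rw [ei, ez, ← a13]; group
    rw [hzc, ei]
    rcases a15 with h | h
    · left
      refine mul_inv_eq_one.1 ?_
      conv_rhs => rw [show (1 : G) = F.g 6 * 1 * (F.g 6)⁻¹ by group, ← h]
      group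
    · right
      refine mul_inv_eq_iff_eq_mul.1 ?_
      conv_rhs => rw [← a5, ← h]
      group
  · have hzc : F.z * F.i' * F.z⁻¹ = F.g 5 * ((F.g 1)⁻¹ * F.g 6 * F.g 1) * (F.g 5)⁻¹ := by
      rw [ei', ez, ← a14]; group
    rw [hzc, ei']
    rcases a16 with h | h
    · left
      refine mul_inv_eq_one.1 ?_
      conv_rhs => rw [show (1 : G) = F.g 5 * 1 * (F.g 5)⁻¹ by group, ← h]
      group
    · right
      refine mul_inv_eq_iff_eq_mul.1 ?_
      conv_rhs => rw [← a6, ← h]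
      group

/-- What centralises `z` and `t` is a power of `z` times a power of `t`. -/
theorem cent_zt {g : G} (hz : Commute g F.z) (ht : Commute g F.t) :
    ∃ (e : Fin 3) (f : Fin 2), g = F.z ^ e.1 * F.t ^ f.1 := by
  have ez : F.z = F.LA.ψ ((1, 0), one3) := rfl
  rw [ez] at hz
  obtain ⟨p, hp, rfl⟩ := F.LA.surj g (F.cent g hz)
  rw [← F.wval_tW, (F.wval_A (w := tW) (by decide)).1] at ht
  obtain ⟨e, f, hef⟩ := cent_table p hp ((F.LA.comm_iff hp (by decide)).1 hz)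
    ((F.LA.comm_iff hp (by decide)).1 ht)
  refine ⟨e, f, ?_⟩
  have hin : inA (List.replicate e.1 0 ++ (List.replicate f.1 tW).flatten) = true := by
    clear hef; revert e f; decide
  rw [hef, ← (F.wval_A hin).1, wval_append, ← F.wval_tW]
  congr 1
  · fin_cases e <;> simp [wval, lval, idL, Frame.z, pow_two]
  · fin_cases f <;> simp [wval, tW]

/-- The cube of the product of `z` and a suitable element is one or `t`. -/
theorem cube_cases [Finite G] :
    ((F.i * F.i' * F.z) ^ 3 = 1 ∨ (F.i * F.i' * F.z) ^ 3 = F.t) ∧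
      ((F.i * F.z⁻¹ * F.i' * F.z * F.z) ^ 3 = 1 ∨ (F.i * F.z⁻¹ * F.i' * F.z * F.z) ^ 3 = F.t) := by
  obtain ⟨ht2, hu2, huz, hz3, htu, ht1, hz1, hzt, hu1, hut⟩ := F.word_facts
  obtain ⟨hi2, hi'2, hit, hi't, hiu, hi'u, hiz, hi'z⟩ := F.weyl_facts
  set K := Subgroup.centralizer ({F.t} : Set G) with hK
  have mem : ∀ {g : G}, Commute g F.t → g ∈ K := fun h => Subgroup.mem_centralizer_singleton_iff.2 h
  have com : ∀ g : K, Commute (g : G) F.t := fun g => Subgroup.mem_centralizer_singleton_iff.1 g.2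
  have hzt' : Commute F.z F.t := by
    have e : Frame.sameSide [0, 6, 8] [6, 8, 0] = true := by decide +kernel
    have := F.wval_eq e
    simp [wval, lval, idL] at this
    show F.g 0 * (F.g 3 * F.g 4) = F.g 3 * F.g 4 * F.g 0
    rw [mul_assoc (F.g 3)]; exact this
  let tK : K := ⟨F.t, mem (Commute.refl _)⟩
  let zK : K := ⟨F.z, mem hzt'⟩
  let uK : K := ⟨F.u, mem htu.symm⟩
  let iK : K := ⟨F.i, mem hit⟩
  let jK : K := ⟨F.i', mem hi't⟩
  set T := Subgroup.zpowers tK with hT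
  have hTc : ∀ x ∈ T, (x : G) = 1 ∨ (x : G) = F.t := by
    intro x hx
    obtain ⟨n, rfl⟩ := hx
    rcases Int.even_or_odd n with ⟨m, rfl⟩ | ⟨m, rfl⟩
    · left
      simp only [show m + m = 2 * m by ring, zpow_mul, Subgroup.coe_zpow]
      rw [zpow_two, ht2, one_zpow]
    · right
      simp only [zpow_add, zpow_mul, zpow_one, Subgroup.coe_mul, Subgroup.coe_zpow]
      rw [zpow_two, ht2, one_zpow, one_mul]
  have htT : tK ∈ T := Subgroup.mem_zpowers _
  haveI : T.Normal := ⟨fun x hx g => by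
    have e : g * x * g⁻¹ = x := Subtype.ext (by
      rcases hTc x hx with h | h
      · simp [h]
      · simp only [Subgroup.coe_mul, InvMemClass.coe_inv, h]
        rw [(com g).eq, mul_inv_cancel_right])
    rwa [e]⟩
  let π : K →* K ⧸ T := QuotientGroup.mk' T
  have hker : ∀ {x : K}, π x = 1 → (x : G) = 1 ∨ (x : G) = F.t := fun h =>
    hTc _ ((QuotientGroup.eq_one_iff _).1 h)
  have hone : ∀ {x : K}, ((x : G) = 1 ∨ (x : G) = F.t) → π x = 1 := fun {x} h => by
    refine (QuotientGroup.eq_one_iff _).2 ?_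
    rcases h with h | h
    · rw [show x = 1 from Subtype.ext h]; exact one_mem T
    · rw [show x = tK from Subtype.ext h]; exact htT
  have hπt : π tK = 1 := hone (Or.inr rfl)
  have z1 : π zK ≠ 1 := fun h => (hker h).elim hz1 hzt
  have z3 : π zK ^ 3 = 1 := by rw [← map_pow]; exact hone (Or.inl hz3)
  set X := Subgroup.zpowers (π zK) with hX
  have hXc : Nat.card X = 3 := by
    haveI := Fact.mk Nat.prime_three
    rw [Nat.card_zpowers]; exact orderOf_eq_prime z3 z1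
  have hcent : Subgroup.centralizer (X : Set (K ⧸ T)) = X := by
    refine le_antisymm (fun h hh => ?_) (fun h hh => ?_)
    · obtain ⟨g, rfl⟩ := QuotientGroup.mk'_surjective T h
      have e : π (g * zK * g⁻¹ * zK⁻¹) = 1 := by
        have h' := Subgroup.mem_centralizer_iff.1 hh (π zK) (Subgroup.mem_zpowers _)
        show π (g * zK * g⁻¹ * zK⁻¹) = 1
        rw [map_mul, map_mul, map_mul, map_inv, map_inv]
        rw [show π g * π zK = π zK * π g from h'.symm]
        group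
      have hgz : Commute (g : G) F.z := by
        rcases hker e with e | e
        · exact mul_inv_eq_iff_eq_mul.1 (mul_inv_eq_one.1 e)
        · exfalso
          have h3 := congrArg (· ^ 3) (mul_inv_eq_iff_eq_mul.1 e : (g : G) * F.z * (g : G)⁻¹ = F.t * F.z)
          beta_reduce at h3
          rw [conj_pow, hz3, mul_one, mul_inv_cancel, (hzt'.symm).mul_pow, hz3, mul_one, pow_three, ht2,
            mul_one] at h3
          exact ht1 h3.symm
      obtain ⟨a, b, hab⟩ := F.cent_zt hgz (com g)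
      have : g = zK ^ a.1 * tK ^ b.1 := Subtype.ext (by rw [hab]; rfl)
      rw [this, map_mul, map_pow, map_pow, hπt, one_pow, mul_one]
      exact Subgroup.pow_mem _ (Subgroup.mem_zpowers _) _
    · exact Subgroup.mem_centralizer_iff.2 fun k hk => by
        obtain ⟨m, rfl⟩ := hh
        obtain ⟨n, rfl⟩ := hk
        exact ((Commute.refl (π zK)).zpow_zpow n m).eq
  have u2 : π uK * π uK = 1 := by rw [← map_mul]; exact hone (Or.inl hu2)
  have uz : π uK * π zK = (π zK)⁻¹ * π uK := by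
    rw [← map_inv, ← map_mul, ← map_mul]
    exact congrArg π (Subtype.ext (mul_inv_eq_iff_eq_mul.1 huz))
  have key : ∀ e : K, (e : G) * e = F.t → (e : G) * F.u * (e : G)⁻¹ = F.u * F.t →
      ((e : G) * (F.z * e * F.z⁻¹) = F.z * e * F.z⁻¹ * e ∨
        (e : G) * (F.z * e * F.z⁻¹) = F.t * (F.z * e * F.z⁻¹ * e)) →
      π e * π e = 1 ∧ π e * π uK = π uK * π e ∧
        π e * (π zK * π e * (π zK)⁻¹) = π zK * π e * (π zK)⁻¹ * π e := by
    intro e he heu hez
    refine ⟨?_, ?_, ?_⟩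
    · rw [← map_mul]; exact hone (Or.inr he)
    · have : e * uK = uK * tK * e := Subtype.ext (mul_inv_eq_iff_eq_mul.1 heu)
      rw [← map_mul, this, map_mul, map_mul, hπt, mul_one]
    · simp only [← map_inv, ← map_mul]
      rcases hez with h | h
      · exact congrArg π (Subtype.ext h)
      · rw [show e * (zK * e * zK⁻¹) = tK * (zK * e * zK⁻¹ * e) from Subtype.ext h, map_mul, hπt, one_mul]
  obtain ⟨i2, iu, iz⟩ := key iK hi2 hiu hiz
  obtain ⟨j2, ju, jz⟩ := key jK hi'2 hi'u hi'z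
  have main : ∀ (N : Subgroup (K ⧸ T)) (_ : N.Normal), (Nat.card N).Coprime 3 → NoInv ((K ⧸ T) ⧸ N) →
      ∀ n ∈ N, (n * π zK) ^ 3 = 1 := by
    intro N hN hco _ n hn
    let f : N → N := fun m => ⟨(m : K ⧸ T)⁻¹ * (π zK * m * (π zK)⁻¹),
      N.mul_mem (N.inv_mem m.2) (hN.conj_mem _ m.2 _)⟩
    have hf : Function.Injective f := by
      intro a b hab
      have e : (a : K ⧸ T)⁻¹ * (π zK * a * (π zK)⁻¹) = (b : K ⧸ T)⁻¹ * (π zK * b * (π zK)⁻¹) :=
        congrArg Subtype.val hab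
      have hc : (b : K ⧸ T) * (a : K ⧸ T)⁻¹ ∈ X := by
        rw [← hcent, hX]
        refine Subgroup.mem_centralizer_iff.2 ?_
        rintro _ ⟨m, rfl⟩
        refine (Commute.zpow_left ?_ m).eq
        show π zK * ((b : K ⧸ T) * (a : K ⧸ T)⁻¹) = (b : K ⧸ T) * (a : K ⧸ T)⁻¹ * π zK
        have e2 : (b : K ⧸ T) * (a : K ⧸ T)⁻¹ * π zK = π zK * (b : K ⧸ T) * (π zK)⁻¹ * (π zK * (a : K ⧸ T) * (π zK)⁻¹)⁻¹ * π zK := by
          rw [show π zK * (b : K ⧸ T) * (π zK)⁻¹ * (π zK * (a : K ⧸ T) * (π zK)⁻¹)⁻¹ =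
            (b : K ⧸ T) * ((b : K ⧸ T)⁻¹ * (π zK * b * (π zK)⁻¹)) * ((a : K ⧸ T) * ((a : K ⧸ T)⁻¹ * (π zK * a * (π zK)⁻¹)))⁻¹ by group]
          rw [e]; group
        rw [e2]; group
      have h0 : (⟨(b : K ⧸ T) * (a : K ⧸ T)⁻¹, hc⟩ : X) = 1 := by
        refine orderOf_eq_one_iff.1 (Nat.dvd_one.1 (hco ▸ Nat.dvd_gcd ?_ (hXc ▸ orderOf_dvd_natCard _)))
        rw [Subgroup.orderOf_mk]
        exact Subgroup.orderOf_dvd_natCard N (N.mul_mem b.2 (N.inv_mem a.2))
      exact (Subtype.ext (mul_inv_eq_one.1 (congrArg Subtype.val h0))).symm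
    obtain ⟨m, hm⟩ := (Finite.injective_iff_surjective.1 hf) ⟨n, hn⟩
    have e : n * π zK = (m : K ⧸ T)⁻¹ * π zK * ((m : K ⧸ T)⁻¹)⁻¹ := by
      rw [← show (m : K ⧸ T)⁻¹ * (π zK * m * (π zK)⁻¹) = n from congrArg Subtype.val hm]; group
    rw [e, conj_pow, z3]; group
  have inN : ∀ (N : Subgroup (K ⧸ T)) (_ : N.Normal), (Nat.card N).Coprime 3 → NoInv ((K ⧸ T) ⧸ N) →
      π iK ∈ N ∧ π jK ∈ N := by
    intro N hN hco hno
    let ρ := QuotientGroup.mk' N
    have hx1 : ρ (π zK) ≠ 1 := fun h => by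
      have hzN : π zK ∈ N := (QuotientGroup.eq_one_iff _).1 h
      refine z1 (orderOf_eq_one_iff.1 (Nat.dvd_one.1 (hco ▸ Nat.dvd_gcd ?_ (orderOf_dvd_of_pow_eq_one z3))))
      exact Subgroup.orderOf_dvd_natCard N hzN
    have step : ∀ e, e * e = 1 → e * π uK = π uK * e →
        e * (π zK * e * (π zK)⁻¹) = π zK * e * (π zK)⁻¹ * e → e ∈ N := by
      intro e h1 h2 h3
      refine (QuotientGroup.eq_one_iff _).1 (hno (ρ (π zK)) (by rw [← map_pow, z3, map_one]) hx1 (ρ (π uK))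
        (by rw [← map_mul, u2, map_one]) (by rw [← map_mul, uz, map_mul, map_inv]) (ρ e)
        (by rw [← map_mul, h1, map_one]) (by rw [← map_mul, h2, map_mul]) ?_)
      have h := congrArg ρ h3
      simpa only [map_mul, map_inv] using h
    exact ⟨step _ i2 iu iz, step _ j2 ju jz⟩
  have fin : ∀ (N : Subgroup (K ⧸ T)) (_ : N.Normal), (Nat.card N).Coprime 3 → NoInv ((K ⧸ T) ⧸ N) →
      π (iK * jK * zK) ^ 3 = 1 ∧ π (iK * zK⁻¹ * jK * zK * zK) ^ 3 = 1 := by
    intro N hN hco hno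
    obtain ⟨hi, hj⟩ := inN N hN hco hno
    constructor
    · rw [map_mul, map_mul]; exact main N hN hco hno _ (N.mul_mem hi hj)
    · rw [map_mul, map_mul, map_mul, map_mul, map_inv,
        show π iK * (π zK)⁻¹ * π jK * π zK = π iK * ((π zK)⁻¹ * π jK * ((π zK)⁻¹)⁻¹) by group]
      exact main N hN hco hno _ (N.mul_mem hi (hN.conj_mem _ hj _))
  have hfin : π (iK * jK * zK) ^ 3 = 1 ∧ π (iK * zK⁻¹ * jK * zK * zK) ^ 3 = 1 := by
    rcases Cfsg.Agent.S3331.result X hXc hcent with ⟨N, hN, -, hco, hq⟩ | ⟨N, hN, -, hN2, ⟨e⟩⟩ | hL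
    · refine fin N hN hco ?_
      rcases hq with hq | ⟨⟨e⟩⟩
      · exact noInv_three hq
      · exact noInv_perm.congr e
    · refine fin N hN ?_ (noInv_alt.congr e)
      obtain ⟨n, hn⟩ := IsPGroup.iff_card.1 (show IsPGroup 2 N from fun a => ⟨1, Subtype.ext (hN2 a.1 a.2)⟩)
      rw [hn]; exact Nat.Coprime.pow_left n (by decide)
    · exfalso
      obtain ⟨e⟩ := hL
      haveI := Fact.mk (show Nat.Prime 7 by norm_num)
      have i1 : π iK ≠ 1 := fun h => by
        rcases hker h with h | h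
        · rw [show F.i = 1 from h] at hi2; exact ht1 (by simpa using hi2.symm)
        · rw [show F.i = F.t from h, ht2] at hi2; exact ht1 hi2.symm
      have u1 : π uK ≠ 1 := fun h => (hker h).elim hu1 hut
      have oi : orderOf (e (π iK)) = 2 := by
        rw [MulEquiv.orderOf_eq]; exact orderOf_eq_prime (by rw [pow_two]; exact i2) i1
      have ou : orderOf (e (π uK)) = 2 := by
        rw [MulEquiv.orderOf_eq]; exact orderOf_eq_prime (by rw [pow_two]; exact u2) u1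
      obtain ⟨c, hc⟩ := isConj_iff.1 (Cfsg.Lib.Dickson.isConj_of_involutions (F := ZMod 7)
        (by rw [ZMod.card]; omega) oi ou)
      obtain ⟨g, hg⟩ := QuotientGroup.mk'_surjective T (e.symm c)
      have hcon : π g * π iK * (π g)⁻¹ = π uK := by
        apply e.injective
        rw [show π g = e.symm c from hg, map_mul, map_mul, map_inv, MulEquiv.apply_symm_apply, hc]
      have h1 : π (uK⁻¹ * (g * iK * g⁻¹)) = 1 := by
        rw [map_mul, map_inv, map_mul, map_mul, map_inv, hcon, inv_mul_cancel]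
      have h2 : F.u⁻¹ * ((g : G) * F.i * (g : G)⁻¹) = 1 ∨ F.u⁻¹ * ((g : G) * F.i * (g : G)⁻¹) = F.t := hker h1
      have h3 : ((g : G) * F.i * (g : G)⁻¹) * ((g : G) * F.i * (g : G)⁻¹) = F.t := by
        rw [show (g : G) * F.i * (g : G)⁻¹ * ((g : G) * F.i * (g : G)⁻¹) = (g : G) * (F.i * F.i) * (g : G)⁻¹ by group,
          hi2, (com g).eq, mul_inv_cancel_right]
      rcases h2 with h2 | h2
      · rw [← inv_mul_eq_one.1 h2, hu2] at h3; exact ht1 h3.symm
      · rw [inv_mul_eq_iff_eq_mul.1 h2, mul_assoc, ← mul_assoc F.t, htu.eq, mul_assoc, ← mul_assoc, hu2,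
          one_mul, ht2] at h3
        exact ht1 h3.symm
  refine ⟨?_, ?_⟩
  · have := hker (x := (iK * jK * zK) ^ 3) (by rw [map_pow]; exact hfin.1)
    exact this
  · have := hker (x := (iK * zK⁻¹ * jK * zK * zK) ^ 3) (by rw [map_pow]; exact hfin.2)
    exact this

end Frame

end Cfsg.Lib.AmalgamM12
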