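import Cfsg.Agent.Lib.AmalgamM12.MTwelveData

/-!
Kernel checks of the certificate `mCert`.
-/

set_option autoImplicit false
set_option maxRecDepth 100000

namespace Cfsg.Lib.AmalgamM12

open Cfsg.Lib.J3Type

theorem mCert_facts0 : factsOK mCert 0 2000 = true := by decide +kernel

theorem mCert_facts1 : factsOK mCert 2000 2000 = true := by decide +kernel

theorem mCert_facts2 : factsOK mCert 4000 2000 = true := by decide +kernel

theorem mCert_facts3 : factsOK mCert 6000 2000 = true := by decide +kernel

theorem mCert_facts4 : factsOK mCert 8000 2000 = true := by decide +kernel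

theorem mCert_facts5 : factsOK mCert 10000 2000 = true := by decide +kernel

theorem mCert_facts6 : factsOK mCert 12000 2000 = true := by decide +kernel

theorem mCert_facts7 : factsOK mCert 14000 2000 = true := by decide +kernel

theorem mCert_facts8 : factsOK mCert 16000 2000 = true := by decide +kernel

theorem mCert_facts9 : factsOK mCert 18000 2000 = true := by decide +kernel

theorem mCert_facts10 : factsOK mCert 20000 2000 = true := by decide +kernel

theorem mCert_facts11 : factsOK mCert 22000 2000 = true := by decide +kernel

theorem mCert_facts12 : factsOK mCert 24000 2000 = true := by decide +kernel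

theorem mCert_facts13 : factsOK mCert 26000 2000 = true := by decide +kernel

theorem mCert_facts14 : factsOK mCert 28000 2000 = true := by decide +kernel

theorem mCert_facts15 : factsOK mCert 30000 2000 = true := by decide +kernel

theorem mCert_facts16 : factsOK mCert 32000 2000 = true := by decide +kernel

theorem mCert_facts17 : factsOK mCert 34000 2000 = true := by decide +kernel

theorem mCert_facts18 : factsOK mCert 36000 2000 = true := by decide +kernel

theorem mCert_facts19 : factsOK mCert 38000 2000 = true := by decide +kernel

theorem mCert_facts20 : factsOK mCert 40000 2000 = true := by decide +kernel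

theorem mCert_facts21 : factsOK mCert 42000 2000 = true := by decide +kernel

theorem mCert_facts22 : factsOK mCert 44000 2000 = true := by decide +kernel

theorem mCert_facts23 : factsOK mCert 46000 2000 = true := by decide +kernel

theorem mCert_facts24 : factsOK mCert 48000 1620 = true := by decide +kernel

theorem mCert_rows0 : rowsOK mCert 0 220 = true := by decide +kernel

theorem mCert_fact_ok : ∀ i < mCert.nFacts, factOK mCert i = true := by
  intro i hi
  replace hi : i < 49620 := hi
  by_cases h0 : i < 2000
  · exact factOK_of_factsOK mCert_facts0 (by omega) (by omega)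
  by_cases h1 : i < 4000
  · exact factOK_of_factsOK mCert_facts1 (by omega) (by omega)
  by_cases h2 : i < 6000
  · exact factOK_of_factsOK mCert_facts2 (by omega) (by omega)
  by_cases h3 : i < 8000
  · exact factOK_of_factsOK mCert_facts3 (by omega) (by omega)
  by_cases h4 : i < 10000
  · exact factOK_of_factsOK mCert_facts4 (by omega) (by omega)
  by_cases h5 : i < 12000
  · exact factOK_of_factsOK mCert_facts5 (by omega) (by omega)
  by_cases h6 : i < 14000
  · exact factOK_of_factsOK mCert_facts6 (by omega) (by omega)
  by_cases h7 : i < 16000
  · exact factOK_of_factsOK mCert_facts7 (by omega) (by omega)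
  by_cases h8 : i < 18000
  · exact factOK_of_factsOK mCert_facts8 (by omega) (by omega)
  by_cases h9 : i < 20000
  · exact factOK_of_factsOK mCert_facts9 (by omega) (by omega)
  by_cases h10 : i < 22000
  · exact factOK_of_factsOK mCert_facts10 (by omega) (by omega)
  by_cases h11 : i < 24000
  · exact factOK_of_factsOK mCert_facts11 (by omega) (by omega)
  by_cases h12 : i < 26000
  · exact factOK_of_factsOK mCert_facts12 (by omega) (by omega)
  by_cases h13 : i < 28000
  · exact factOK_of_factsOK mCert_facts13 (by omega) (by omega)
  by_cases h14 : i < 30000
  · exact factOK_of_factsOK mCert_facts14 (by omega) (by omega)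
  by_cases h15 : i < 32000
  · exact factOK_of_factsOK mCert_facts15 (by omega) (by omega)
  by_cases h16 : i < 34000
  · exact factOK_of_factsOK mCert_facts16 (by omega) (by omega)
  by_cases h17 : i < 36000
  · exact factOK_of_factsOK mCert_facts17 (by omega) (by omega)
  by_cases h18 : i < 38000
  · exact factOK_of_factsOK mCert_facts18 (by omega) (by omega)
  by_cases h19 : i < 40000
  · exact factOK_of_factsOK mCert_facts19 (by omega) (by omega)
  by_cases h20 : i < 42000
  · exact factOK_of_factsOK mCert_facts20 (by omega) (by omega)
  by_cases h21 : i < 44000
  · exact factOK_of_factsOK mCert_facts21 (by omega) (by omega)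
  by_cases h22 : i < 46000
  · exact factOK_of_factsOK mCert_facts22 (by omega) (by omega)
  by_cases h23 : i < 48000
  · exact factOK_of_factsOK mCert_facts23 (by omega) (by omega)
  by_cases h24 : i < 49620
  · exact factOK_of_factsOK mCert_facts24 (by omega) (by omega)
  omega

theorem mCert_row_ok : ∀ c < mCert.nLive, rowOK mCert c = true := by
  intro c hc
  replace hc : c < 220 := hc
  by_cases h0 : c < 220
  · exact rowOK_of_rowsOK mCert_rows0 (by omega) (by omega)
  omega

theorem mCert_live_zero : mCert.live.get 15 0 = 0 := by decide +kernel

end Cfsg.Lib.AmalgamM12
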