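import Cfsg.Agent.Lib.AmalgamM12.Frame
import Cfsg.Agent.Lib.MTwelveRecog.Central
import Cfsg.Agent.Lib.Concrete.SporMathieu
import Cfsg.Agent.Lib.Linear.SLBasic

/-!
# The two groups with their letters

A word is evaluated by pushing each point through tables.
-/

set_option autoImplicit false
set_option maxRecDepth 100000
set_option synthInstance.maxSize 4000

namespace Cfsg.Lib.AmalgamM12

open Cfsg.Lib.J3Type (wval lval invL idL wval_nil wval_cons wval_append wval_map lval_invL)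
open Cfsg.Lib.MTwelveRecog (stdTwelve shE muE twE sw0)

/-- The image of a point under a word. -/
def apN (T : List (List ℕ)) (w : List ℕ) (x : ℕ) : ℕ := w.foldr (fun l y => (T.getD l []).getD y 0) x

/-- The word fixes every point. -/
def fixN (T : List (List ℕ)) (N : ℕ) (w : List ℕ) : Bool :=
  w.all (fun l => Nat.blt l 14) && (List.range N).all fun x => Nat.beq (apN T w x) x

/-- The tables are those of the letters. -/
structure Tables {M α : Type} [Group M] (φ : M →* Equiv.Perm α) (g : ℕ → M) (pt : ℕ → α) (T : List (List ℕ))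
    (N : ℕ) : Prop where
  inj : Function.Injective φ
  surj : ∀ a, ∃ x < N, pt x = a
  step : ∀ i < 7, ∀ x < N, φ (g i) (pt x) = pt ((T.getD (2 * i) []).getD x 0)
  back : ∀ l < 14, ∀ x < N, (T.getD l []).getD x 0 < N ∧
    (T.getD (2 * (l / 2)) []).getD ((T.getD (2 * (l / 2) + 1) []).getD x 0) 0 = x

namespace Tables

variable {M α : Type} [Group M] {φ : M →* Equiv.Perm α} {g : ℕ → M} {pt : ℕ → α} {T : List (List ℕ)} {N : ℕ}
  (h : Tables φ g pt T N)
include h

theorem wval_ap (w : List ℕ) (hw : ∀ l ∈ w, l < 14) :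
    ∀ x < N, apN T w x < N ∧ φ (wval g w) (pt x) = pt (apN T w x) := by
  induction w with
  | nil => exact fun x hx => ⟨hx, by rw [wval_nil, map_one]; rfl⟩
  | cons l w ih =>
    intro x hx
    obtain ⟨hy, e⟩ := ih (fun m hm => hw m (List.mem_cons_of_mem _ hm)) x hx
    have hl := hw l (List.mem_cons_self ..)
    refine ⟨(h.back l hl _ hy).1, ?_⟩
    rw [wval_cons, map_mul, Equiv.Perm.mul_apply, e]
    show φ (lval g l) (pt (apN T w x)) = pt ((T.getD l []).getD (apN T w x) 0)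
    rw [lval, if_neg (show ¬ idL ≤ l by unfold idL; omega)]
    rcases Nat.mod_two_eq_zero_or_one l with h2 | h2
    · rw [if_pos h2, h.step _ (by omega) _ hy, show 2 * (l / 2) = l by omega]
    · rw [if_neg (by omega), map_inv, Equiv.Perm.inv_eq_iff_eq, h.step _ (by omega) _ (h.back l hl _ hy).1]
      congr 1
      conv => rhs; arg 2; rw [show l = 2 * (l / 2) + 1 by omega]
      exact (h.back l hl _ hy).2.symm

theorem eq_one {w : List ℕ} (hw : fixN T N w = true) : wval g w = 1 := by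
  simp only [fixN, Bool.and_eq_true] at hw
  have hl : ∀ l ∈ w, l < 14 := fun l hl => Nat.lt_of_succ_le (Nat.le_of_ble_eq_true (List.all_eq_true.1 hw.1 l hl))
  refine h.inj (Equiv.ext fun a => ?_)
  obtain ⟨x, hx, rfl⟩ := h.surj a
  rw [map_one, (h.wval_ap w hl x hx).2, Nat.eq_of_beq_eq_true (List.all_eq_true.1 hw.2 x (List.mem_range.2 hx))]
  rfl

theorem eq_target {w : List ℕ} {m : M} (hl : ∀ l ∈ w, l < 14)
    (hm : ∀ x < N, φ m (pt x) = pt (apN T w x)) : m = wval g w := by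
  refine h.inj (Equiv.ext fun a => ?_)
  obtain ⟨x, hx, rfl⟩ := h.surj a
  rw [hm x hx, (h.wval_ap w hl x hx).2]

end Tables

theorem wval_mem_closure {M : Type} [Group M] (g : ℕ → M) {w : List ℕ} (hw : ∀ l ∈ w, l < 14) :
    wval g w ∈ Subgroup.closure (Set.range fun i : Fin 7 => g i) := by
  induction w with
  | nil => rw [wval_nil]; exact one_mem _
  | cons l w ih =>
    rw [wval_cons]
    refine mul_mem ?_ (ih fun m hm => hw m (List.mem_cons_of_mem _ hm))
    have hl := hw l (List.mem_cons_self ..)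
    have hg : g (l / 2) ∈ Subgroup.closure (Set.range fun i : Fin 7 => g i) :=
      Subgroup.subset_closure ⟨⟨l / 2, by omega⟩, rfl⟩
    rw [lval, if_neg (show ¬ idL ≤ l by unfold idL; omega)]
    split
    · exact hg
    · exact inv_mem hg

/-- Action of matrices on vectors. -/
def vecPerm : Matrix.SpecialLinearGroup (Fin 3) (ZMod 3) →* Equiv.Perm (Fin 3 → ZMod 3) where
  toFun A :=
    { toFun := fun v => A.1.mulVec v
      invFun := fun v => (A⁻¹).1.mulVec v
      left_inv := fun v => by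
        show (A⁻¹).1.mulVec (A.1.mulVec v) = v
        rw [Matrix.mulVec_mulVec, ← Matrix.SpecialLinearGroup.coe_mul, inv_mul_cancel,
          Matrix.SpecialLinearGroup.coe_one, Matrix.one_mulVec]
      right_inv := fun v => by
        show A.1.mulVec ((A⁻¹).1.mulVec v) = v
        rw [Matrix.mulVec_mulVec, ← Matrix.SpecialLinearGroup.coe_mul, mul_inv_cancel,
          Matrix.SpecialLinearGroup.coe_one, Matrix.one_mulVec] }
  map_one' := Equiv.ext fun v => Matrix.one_mulVec v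
  map_mul' A B := Equiv.ext fun v => (Matrix.mulVec_mulVec v A.1 B.1).symm

theorem vecPerm_injective : Function.Injective vecPerm := fun A B h => by
  refine Matrix.SpecialLinearGroup.ext _ _ fun i j => ?_
  exact by
    have := congrArg (fun p : Equiv.Perm (Fin 3 → ZMod 3) => p (Pi.single j 1) i) h
    simpa [vecPerm, Matrix.mulVec_single] using this

/-- The letters as matrices. -/
def matL (i : ℕ) : Matrix.SpecialLinearGroup (Fin 3) (ZMod 3) :=
  [⟨!![1, 0, 1; 0, 1, 0; 0, 0, 1], by decide⟩,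
  ⟨!![1, 0, 0; 0, 1, 1; 0, 0, 1], by decide⟩,
  ⟨!![1, 1, 0; 0, 1, 0; 0, 0, 1], by decide⟩,
  ⟨!![2, 0, 0; 0, 2, 0; 0, 0, 1], by decide⟩,
  ⟨!![1, 0, 0; 0, 2, 0; 0, 0, 2], by decide⟩,
  ⟨!![0, 2, 0; 1, 0, 0; 0, 0, 1], by decide⟩,
  ⟨!![1, 0, 0; 0, 0, 2; 0, 1, 0], by decide⟩].getD i 1

/-- The vectors by numbers. -/
def vecPt (x : ℕ) : Fin 3 → ZMod 3 := ![((x / 9 : ℕ) : ZMod 3), ((x / 3 : ℕ) : ZMod 3), (x : ZMod 3)]

/-- The tables of the matrices. -/
def tabL : List (List ℕ) :=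
  [
    [0, 10, 20, 3, 13, 23, 6, 16, 26, 9, 19, 2, 12, 22, 5, 15, 25, 8, 18, 1, 11, 21, 4, 14, 24, 7, 17],
    [0, 19, 11, 3, 22, 14, 6, 25, 17, 9, 1, 20, 12, 4, 23, 15, 7, 26, 18, 10, 2, 21, 13, 5, 24, 16, 8],
    [0, 4, 8, 3, 7, 2, 6, 1, 5, 9, 13, 17, 12, 16, 11, 15, 10, 14, 18, 22, 26, 21, 25, 20, 24, 19, 23],
    [0, 7, 5, 3, 1, 8, 6, 4, 2, 9, 16, 14, 12, 10, 17, 15, 13, 11, 18, 25, 23, 21, 19, 26, 24, 22, 20],
    [0, 1, 2, 12, 13, 14, 24, 25, 26, 9, 10, 11, 21, 22, 23, 6, 7, 8, 18, 19, 20, 3, 4, 5, 15, 16, 17],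
    [0, 1, 2, 21, 22, 23, 15, 16, 17, 9, 10, 11, 3, 4, 5, 24, 25, 26, 18, 19, 20, 12, 13, 14, 6, 7, 8],
    [0, 1, 2, 6, 7, 8, 3, 4, 5, 18, 19, 20, 24, 25, 26, 21, 22, 23, 9, 10, 11, 15, 16, 17, 12, 13, 14],
    [0, 1, 2, 6, 7, 8, 3, 4, 5, 18, 19, 20, 24, 25, 26, 21, 22, 23, 9, 10, 11, 15, 16, 17, 12, 13, 14],
    [0, 2, 1, 6, 8, 7, 3, 5, 4, 9, 11, 10, 15, 17, 16, 12, 14, 13, 18, 20, 19, 24, 26, 25, 21, 23, 22],
    [0, 2, 1, 6, 8, 7, 3, 5, 4, 9, 11, 10, 15, 17, 16, 12, 14, 13, 18, 20, 19, 24, 26, 25, 21, 23, 22],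
    [0, 1, 2, 18, 19, 20, 9, 10, 11, 3, 4, 5, 21, 22, 23, 12, 13, 14, 6, 7, 8, 24, 25, 26, 15, 16, 17],
    [0, 1, 2, 9, 10, 11, 18, 19, 20, 6, 7, 8, 15, 16, 17, 24, 25, 26, 3, 4, 5, 12, 13, 14, 21, 22, 23],
    [0, 6, 3, 1, 7, 4, 2, 8, 5, 9, 15, 12, 10, 16, 13, 11, 17, 14, 18, 24, 21, 19, 25, 22, 20, 26, 23],
    [0, 3, 6, 2, 5, 8, 1, 4, 7, 9, 12, 15, 11, 14, 17, 10, 13, 16, 18, 21, 24, 20, 23, 26, 19, 22, 25]]

theorem lTables : Tables vecPerm matL vecPt tabL 27 where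
  inj := vecPerm_injective
  surj := by decide +kernel
  step := by decide +kernel
  back := by decide +kernel

/-- Words for the transvections. -/
def trWords : List (List ℕ) :=
  [
    [],
    [4],
    [0],
    [4, 10, 4],
    [],
    [2],
    [0, 6, 10, 12, 2, 10],
    [2, 12, 2],
    []]

theorem trWords_ok : ∀ i j : Fin 3, i ≠ j →
    (∀ l ∈ trWords.getD (3 * i.1 + j.1) [], l < 14) ∧
      ∀ x < 27, (1 + Matrix.single i j (1 : ZMod 3)).mulVec (vecPt x) =
        vecPt (apN tabL (trWords.getD (3 * i.1 + j.1) []) x) := by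
  decide +kernel

theorem matL_closure : Subgroup.closure (Set.range fun i : Fin 7 => matL i) = ⊤ := by
  rw [eq_top_iff, ← Cfsg.Lib.Linear.closure_transvection_eq_top, Subgroup.closure_le]
  rintro _ ⟨i, j, hij, c, rfl⟩
  obtain ⟨hl, hx⟩ := trWords_ok i j hij
  have e := lTables.eq_target (m := Matrix.SpecialLinearGroup.transvection hij 1) hl
    fun x hxn => by
      rw [← hx x hxn]
      show (Matrix.SpecialLinearGroup.transvection hij 1).1.mulVec (vecPt x) = _
      rw [Matrix.SpecialLinearGroup.transvection_coe]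
  have h1 : Matrix.SpecialLinearGroup.transvection hij (1 : ZMod 3) ∈
      Subgroup.closure (Set.range fun i : Fin 7 => matL i) := e ▸ wval_mem_closure _ hl
  have hc : Matrix.SpecialLinearGroup.transvection hij c =
      Matrix.SpecialLinearGroup.transvection hij (1 : ZMod 3) ^ c.val := by
    have key : ∀ n : ℕ, Matrix.SpecialLinearGroup.transvection hij (1 : ZMod 3) ^ n =
        Matrix.SpecialLinearGroup.transvection hij (n : ZMod 3) := by
      intro n
      induction n with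
      | zero =>
        refine Subtype.ext ?_
        simp [Matrix.SpecialLinearGroup.transvection_coe, Matrix.transvection]
      | succ n ih =>
        refine Subtype.ext ?_
        rw [pow_succ, ih, Matrix.SpecialLinearGroup.coe_mul]
        simp only [Matrix.SpecialLinearGroup.transvection_coe]
        rw [Nat.cast_succ, mul_add, mul_one, add_mul, one_mul, Matrix.single_mul_single_of_ne _ _ _ _ hij.symm,
          add_zero, Matrix.single_add]
        abel
    rw [key, ZMod.natCast_zmod_val]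
  rw [hc]
  exact Subgroup.pow_mem _ h1 _

/-- The generators of the standard group of degree twelve. -/
def stdG (i : ℕ) : stdTwelve :=
  [⟨shE, Subgroup.subset_closure (Or.inl rfl)⟩, ⟨muE, Subgroup.subset_closure (Or.inr (Or.inl rfl))⟩,
    ⟨twE, Subgroup.subset_closure (Or.inr (Or.inr (Or.inl rfl)))⟩,
    ⟨sw0, Subgroup.subset_closure (Or.inr (Or.inr (Or.inr rfl)))⟩].getD i 1

/-- The words of the letters in the generators. -/
def twWords : List (List ℕ) :=
  [
    [2, 6, 0, 4, 6, 4],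
    [6, 0, 2, 0, 4, 0, 2, 6],
    [4, 0, 0, 6, 0, 4, 6, 0, 4, 0],
    [6, 0, 2, 4, 4, 0, 0, 6],
    [4, 0, 0, 4, 4, 0, 0, 2, 4],
    [0, 2, 0, 4, 2, 0, 2, 4, 6, 0],
    [2, 0, 4, 0, 2, 4, 0, 4, 6, 0, 2]]

/-- The letters as permutations. -/
def twL (i : ℕ) : stdTwelve := wval stdG (twWords.getD i [])

/-- The twelve points by numbers. -/
def twPt (x : ℕ) : Fin 12 := ⟨x % 12, Nat.mod_lt _ (by norm_num)⟩

/-- The tables of the permutations. -/
def tabM : List (List ℕ) :=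
  [
    [0, 1, 2, 7, 9, 11, 5, 8, 3, 10, 4, 6],
    [0, 1, 2, 8, 10, 6, 11, 3, 7, 4, 9, 5],
    [0, 1, 2, 5, 7, 10, 9, 11, 6, 8, 3, 4],
    [0, 1, 2, 10, 11, 3, 8, 4, 9, 6, 5, 7],
    [1, 2, 0, 7, 4, 6, 11, 8, 3, 9, 10, 5],
    [2, 0, 1, 8, 4, 11, 5, 3, 7, 9, 10, 6],
    [0, 1, 2, 6, 4, 8, 3, 11, 5, 10, 9, 7],
    [0, 1, 2, 6, 4, 8, 3, 11, 5, 10, 9, 7],
    [1, 0, 2, 8, 4, 6, 5, 7, 3, 10, 9, 11],
    [1, 0, 2, 8, 4, 6, 5, 7, 3, 10, 9, 11],
    [0, 1, 2, 5, 4, 6, 8, 10, 3, 7, 11, 9],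
    [0, 1, 2, 8, 4, 3, 5, 9, 6, 11, 7, 10],
    [9, 10, 4, 5, 2, 8, 3, 11, 6, 1, 0, 7],
    [10, 9, 4, 6, 2, 3, 8, 11, 5, 0, 1, 7]]

theorem mTables : Tables stdTwelve.subtype twL twPt tabM 12 where
  inj := stdTwelve.subtype_injective
  surj := by decide +kernel
  step := by decide +kernel
  back := by decide +kernel

/-- The generators as words in the letters. -/
def backWords : List (List ℕ) :=
  [
    [8, 4, 2, 10, 4, 12, 10, 12, 10, 12, 0],
    [8, 10, 12, 0, 10, 12, 2, 4, 4],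
    [0, 2, 2, 8, 12, 10, 12, 10, 12, 2, 6],
    [4, 4, 10, 12, 2, 4, 10, 12, 0, 2, 6]]

theorem backWords_ok : ∀ i : Fin 4, (∀ l ∈ backWords.getD i.1 [], l < 14) ∧
    ∀ x < 12, stdTwelve.subtype (stdG i) (twPt x) = twPt (apN tabM (backWords.getD i.1 []) x) := by
  decide +kernel

theorem twL_closure : Subgroup.closure (Set.range fun i : Fin 7 => twL i) = ⊤ := by
  have h : ∀ i : Fin 4, stdG i ∈ Subgroup.closure (Set.range fun i : Fin 7 => twL i) := fun i => by
    obtain ⟨hl, hx⟩ := backWords_ok i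
    rw [mTables.eq_target hl hx]
    exact wval_mem_closure _ hl
  have hle : stdTwelve ≤ (Subgroup.closure (Set.range fun i : Fin 7 => twL i)).map stdTwelve.subtype := by
    show Subgroup.closure {shE, muE, twE, sw0} ≤ _
    rw [Subgroup.closure_le]
    rintro p (rfl | rfl | rfl | rfl)
    · exact ⟨_, h 0, rfl⟩
    · exact ⟨_, h 1, rfl⟩
    · exact ⟨_, h 2, rfl⟩
    · exact ⟨_, h 3, rfl⟩
  rw [eq_top_iff]
  intro m _
  obtain ⟨k, hk, e⟩ := hle m.2
  rwa [stdTwelve.subtype_injective e] at hk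

theorem card_psl_three : Nat.card (Matrix.ProjectiveSpecialLinearGroup (Fin 3) (ZMod 3)) = 5616 := by
  have hS : Nat.card (Matrix.SpecialLinearGroup (Fin 3) (ZMod 3)) = 5616 := by
    have h := Cfsg.Lib.Linear.card_SL_mul (F := ZMod 3) 3 (by norm_num)
    rw [Fin.prod_univ_three, ZMod.card] at h
    simp only [Fin.val_zero, Fin.val_one, Fin.val_two] at h
    norm_num [-Nat.card_eq_fintype_card] at h
    omega
  have hc : Nat.card (Subgroup.center (Matrix.SpecialLinearGroup (Fin 3) (ZMod 3))) = 1 := by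
    rw [Cfsg.Lib.Linear.card_center_SL, ZMod.card]
    decide +kernel
  have := Subgroup.card_eq_card_quotient_mul_card_subgroup
    (Subgroup.center (Matrix.SpecialLinearGroup (Fin 3) (ZMod 3)))
  rw [hS, hc, mul_one] at this
  exact this.symm

theorem twelve_simple : IsSimpleGroup stdTwelve := by
  obtain ⟨ι⟩ := Cfsg.Lib.MTwelveRecog.nonempty_sporM12_std
  haveI := Cfsg.Lib.Concrete.isSimple_sporM12
  exact (ι.isSimpleGroup_congr).1 inferInstance

end Cfsg.Lib.AmalgamM12
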