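import Cfsg.Agent.Lib.AmalgamM12.SideData

/-!
Kernel checks of the certificate `aCert`.
-/

set_option autoImplicit false
set_option maxRecDepth 100000

namespace Cfsg.Lib.AmalgamM12

open Cfsg.Lib.J3Type

theorem aCert_facts0 : factsOK aCert 0 2000 = true := by decide +kernel

theorem aCert_facts1 : factsOK aCert 2000 1777 = true := by decide +kernel

theorem aCert_rows0 : rowsOK aCert 0 432 = true := by decide +kernel

theorem aCert_fact_ok : ∀ i < aCert.nFacts, factOK aCert i = true := by
  intro i hi
  replace hi : i < 3777 := hi
  by_cases h0 : i < 2000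
  · exact factOK_of_factsOK aCert_facts0 (by omega) (by omega)
  by_cases h1 : i < 3777
  · exact factOK_of_factsOK aCert_facts1 (by omega) (by omega)
  omega

theorem aCert_row_ok : ∀ c < aCert.nLive, rowOK aCert c = true := by
  intro c hc
  replace hc : c < 432 := hc
  by_cases h0 : c < 432
  · exact rowOK_of_rowsOK aCert_rows0 (by omega) (by omega)
  omega

theorem aCert_live_zero : aCert.live.get 15 0 = 0 := by decide +kernel

end Cfsg.Lib.AmalgamM12
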