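import Cfsg.Agent.Lib.AmalgamM12.Local
import Cfsg.Agent.Lib.AmalgamM12.Models
import Cfsg.Agent.Lib.AmalgamM12.KillAChecks
import Cfsg.Agent.Lib.AmalgamM12.KillBChecks
import Cfsg.Agent.Lib.AmalgamM12.SideChecks
import Cfsg.Agent.Lib.AmalgamM12.LThreeChecks
import Cfsg.Agent.Lib.AmalgamM12.MTwelveChecks

/-!
# The two groups of the amalgam

The relations of the two sides and of the two cubes give a bound on the index of the first side; the
same certificates in the product with a known group give the isomorphism.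
-/

set_option autoImplicit false
set_option maxRecDepth 100000
set_option linter.style.haveILetI false
set_option maxHeartbeats 1600000

namespace Cfsg.Lib.AmalgamM12

open Cfsg Cfsg.Lib.J3Type

universe u

/-- The translation-free generators. -/
def genM (i : ℕ) : M3 := [mE, mD, mJ].getD i one3

/-- Words for all invertible matrices. -/
def matWords : List (List ℕ) :=
  [[],
   [0],
   [1],
   [2],
   [0, 0],
   [0, 1],
   [0, 2],
   [1, 0],
   [1, 2],
   [2, 0],
   [2, 1],
   [2, 2],
   [0, 0, 2],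
   [0, 1, 2],
   [0, 2, 0],
   [0, 2, 1],
   [0, 2, 2],
   [1, 0, 2],
   [1, 2, 0],
   [1, 2, 1],
   [1, 2, 2],
   [2, 0, 0],
   [2, 0, 1],
   [2, 0, 2],
   [2, 1, 0],
   [0, 0, 2, 0],
   [0, 0, 2, 1],
   [0, 0, 2, 2],
   [0, 1, 2, 0],
   [0, 1, 2, 1],
   [0, 1, 2, 2],
   [0, 2, 0, 0],
   [0, 2, 0, 1],
   [0, 2, 1, 0],
   [1, 0, 2, 0],
   [1, 0, 2, 1],
   [1, 0, 2, 2],
   [1, 2, 0, 0],
   [1, 2, 0, 1],
   [1, 2, 0, 2],
   [1, 2, 1, 0],
   [2, 0, 0, 2],
   [2, 0, 2, 1],
   [0, 0, 2, 0, 1],
   [0, 1, 2, 0, 1],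
   [0, 1, 2, 0, 2],
   [0, 2, 0, 0, 2],
   [1, 0, 2, 0, 1]]

/-- The value of a word of generators. -/
def mev (w : List ℕ) : M3 := w.foldr (fun i M => mm (genM i) M) one3

theorem matWords_all : ∀ M : M3, mdet M ≠ 0 → ∃ w ∈ matWords, mev w = M := by decide +kernel

theorem genM_det : ∀ i < 3, mdet (genM i) ≠ 0 := by decide +kernel

theorem matWords_lt : ∀ w ∈ matWords, ∀ i ∈ w, i < 3 := by decide +kernel

theorem translation_split : ∀ v : V3, ∃ a b : Fin 3,
    (v, one3) = (List.replicate a.1 ((((1, 0) : V3), one3) : Af) ++ List.replicate b.1 ((((0, 1) : V3), one3) : Af)).foldr amul aone := by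
  decide +kernel

theorem Lift.le_of_gens {G : Type u} [Group G] {A K : Subgroup G} (L : Lift A) (hz : L.ψ ((1, 0), one3) ∈ K)
    (hx : L.ψ ((0, 1), one3) ∈ K) (hg : ∀ i < 3, L.ψ (0, genM i) ∈ K) : A ≤ K := by
  have hlist : ∀ l : List Af, (∀ p ∈ l, mdet p.2 ≠ 0 ∧ L.ψ p ∈ K) →
      mdet (l.foldr amul aone).2 ≠ 0 ∧ L.ψ (l.foldr amul aone) ∈ K := by
    intro l
    induction l with
    | nil => exact fun _ => ⟨mdet_one, by rw [List.foldr_nil, L.one]; exact one_mem K⟩
    | cons p l ih =>
      intro h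
      obtain ⟨hd, hm⟩ := ih fun q hq => h q (List.mem_cons_of_mem _ hq)
      obtain ⟨pd, pm⟩ := h p (List.mem_cons_self ..)
      rw [List.foldr_cons]
      exact ⟨by show mdet (mm _ _) ≠ 0; rw [mdet_mm]; exact mul_ne_zero pd hd,
        by rw [L.mul _ _ pd hd]; exact mul_mem pm hm⟩
  have hmat : ∀ w : List ℕ, (∀ i ∈ w, i < 3) → mdet (mev w) ≠ 0 ∧ L.ψ (0, mev w) ∈ K := by
    intro w
    induction w with
    | nil => exact fun _ => ⟨mdet_one, by show L.ψ aone ∈ K; rw [L.one]; exact one_mem K⟩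
    | cons i w ih =>
      intro h
      obtain ⟨hd, hm⟩ := ih fun q hq => h q (List.mem_cons_of_mem _ hq)
      have hi := h i (List.mem_cons_self ..)
      refine ⟨by show mdet (mm _ _) ≠ 0; rw [mdet_mm]; exact mul_ne_zero (genM_det i hi) hd, ?_⟩
      have e : amul (0, genM i) (0, mev w) = (0, mev (i :: w)) := by simp [amul, mev, mv]
      rw [← e, L.mul _ _ (genM_det i hi) hd]
      exact mul_mem (hg i hi) hm
  intro g hg'
  obtain ⟨⟨v, M⟩, hM, rfl⟩ := L.surj g hg'
  have e : ((v, M) : Af) = amul (v, one3) (0, M) := by simp [amul, mv, mm, one3]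
  rw [e, L.mul (v, one3) (0, M) mdet_one hM]
  refine mul_mem ?_ ?_
  · obtain ⟨a, b, hab⟩ := translation_split v
    rw [hab]
    refine (hlist _ fun p hp => ?_).2
    rcases List.mem_append.1 hp with hp | hp <;> rw [List.eq_of_mem_replicate hp]
    · exact ⟨mdet_one, hz⟩
    · exact ⟨mdet_one, hx⟩
  · obtain ⟨w, hw, rfl⟩ := matWords_all M hM
    exact (hmat w (matWords_lt w hw)).2

/-- The first word. -/
def fW : List ℕ := iW ++ jW ++ [0]
/-- The second word. -/
def fW' : List ℕ := iW ++ [1] ++ jW ++ [0, 0]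

/-- The relators for a choice of signs. -/
def relsFor (a b : List ℕ) : List (List ℕ) := baseRels ++ [fW ++ fW ++ fW ++ a, fW' ++ fW' ++ fW' ++ b]

/-- The rules follow from the relators. -/
def rulesOK (R : List (List ℕ)) (C : Cert) : Bool := C.rules.all fun ws => ws.all fun w => okRule R w

/-- The rules hold for the tables. -/
def rulesFix (T : List (List ℕ)) (N : ℕ) (C : Cert) : Bool := C.rules.all fun ws => ws.all fun w => fixN T N w

theorem rules_side : rulesOK baseRels aCert = true := by decide +kernel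
theorem rules_killA : rulesOK (relsFor [] []) killAC = true := by decide +kernel
theorem rules_killB : rulesOK (relsFor tW []) killBC = true := by decide +kernel
theorem rules_L : rulesOK (relsFor [] tW) lCert = true := by decide +kernel
theorem rules_M : rulesOK (relsFor tW tW) mCert = true := by decide +kernel
theorem fix_sideL : rulesFix tabL 27 aCert = true := by decide +kernel
theorem fix_L : rulesFix tabL 27 lCert = true := by decide +kernel
theorem fix_sideM : rulesFix tabM 12 aCert = true := by decide +kernel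
theorem fix_M : rulesFix tabM 12 mCert = true := by decide +kernel

theorem cert_shapes : aCert.gens = List.range 12 ∧ aCert.subs = [] ∧ aCert.nLive = 432 ∧
    killAC.gens = List.range 14 ∧ killAC.nLive = 1 ∧ killBC.gens = List.range 14 ∧ killBC.nLive = 1 ∧
    lCert.gens = List.range 14 ∧ lCert.nLive = 13 ∧ mCert.gens = List.range 14 ∧ mCert.nLive = 220 ∧
    (killAC.subs.all fun l => Nat.blt l 12) = true ∧ (killBC.subs.all fun l => Nat.blt l 12) = true ∧
    (lCert.subs.all fun l => Nat.blt l 12) = true ∧ (mCert.subs.all fun l => Nat.blt l 12) = true := by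
  decide +kernel

/-- The letters below a bound. -/
def lowSet {G : Type u} [Group G] (g : ℕ → G) (n : ℕ) : Set G :=
  {y | ∃ j < n, lval g j = y}

theorem card_low_le {G : Type u} [Group G] [Finite G] (g : ℕ → G) (H : Subgroup G) (C : Cert) {n : ℕ}
    (hg : C.gens = List.range n) (hV : Valid C g H) (hok : ∀ i < C.nFacts, factOK C i = true)
    (h0 : C.live.get 15 0 = 0) (hfin : ∀ c < C.nLive, rowOK C c = true) (hpos : 0 < C.nLive) :
    Nat.card ↥(Subgroup.closure (lowSet g n)) ≤ C.nLive * Nat.card H := by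
  have h := card_closure_le hV hok h0 hfin hpos
  have e : {y | ∃ j < C.gens.length, lval g (C.gens.getD j idL) = y} = lowSet g n := by
    ext y
    rw [hg]
    simp only [lowSet, Set.mem_setOf_eq, List.length_range]
    constructor <;> rintro ⟨j, hj, e⟩ <;> refine ⟨j, hj, ?_⟩ <;>
      simpa [List.getD_eq_getElem?_getD, hj] using e
  rwa [e] at h

theorem gen_mem_low {G : Type u} [Group G] (g : ℕ → G) (i : Fin 7) :
    g i ∈ Subgroup.closure (lowSet g 14) :=
  Subgroup.subset_closure ⟨2 * i.1, by omega, by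
    rw [lval, if_neg (show ¬ idL ≤ 2 * i.1 by unfold idL; omega), if_pos (by omega), show 2 * i.1 / 2 = i.1 by omega]⟩

namespace Frame

variable {G : Type u} [Group G] (F : Frame G)

theorem low_top : Subgroup.closure (lowSet F.g 14) = ⊤ := by
  have hg := fun i : Fin 7 => gen_mem_low F.g i
  rw [eq_top_iff, ← F.top, sup_le_iff]
  refine ⟨F.LA.le_of_gens (hg 0) (hg 1) fun i hi => ?_, F.LB.le_of_gens ?_ ?_ fun i hi => ?_⟩
  · interval_cases i
    exacts [hg 2, hg 4, hg 5]
  · rw [F.hz]; exact hg 0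
  · have e : ((((0, 1) : V3), one3) : Af) = cB 5 := rfl
    rw [e, ← F.lval_B 5 (by omega) (by omega) (by omega)]
    exact inv_mem (hg 2)
  · interval_cases i
    · rw [show genM 0 = mE from rfl, F.ha]; exact hg 1
    · rw [show genM 1 = mD from rfl, F.hu]; exact hg 3
    · exact hg 6

theorem rels_one {a b : List ℕ} (ha : wval F.g (fW ++ fW ++ fW ++ a) = 1)
    (hb : wval F.g (fW' ++ fW' ++ fW' ++ b) = 1) : ∀ r ∈ relsFor a b, wval F.g r = 1 := by
  intro r hr
  rcases List.mem_append.1 hr with hr | hr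
  · exact F.baseRels_one r hr
  · rcases List.mem_cons.1 hr with rfl | hr
    · exact ha
    · rw [List.mem_singleton.1 hr]; exact hb

theorem kill [Finite G] {R : List (List ℕ)} (hR : ∀ r ∈ R, wval F.g r = 1) (C : Cert)
    (hrules : rulesOK R C = true) (hg : C.gens = List.range 14) (hn : C.nLive = 1)
    (hs : (C.subs.all fun l => Nat.blt l 12) = true) (hok : ∀ i < C.nFacts, factOK C i = true)
    (h0 : C.live.get 15 0 = 0) (hfin : ∀ c < C.nLive, rowOK C c = true) : False := by
  have hV : Valid C F.g F.A := by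
    refine ⟨fun ws hws w hw => wval_okRule _ hR (List.all_eq_true.1 (List.all_eq_true.1 hrules ws hws) w hw),
      fun s h => ?_⟩
    have h12 : s < 12 := Nat.lt_of_succ_le (Nat.le_of_ble_eq_true (List.all_eq_true.1 hs s h))
    rw [F.lval_A s h12]
    exact F.LA.mem _ (cA_det s h12)
  have h := card_low_le F.g F.A C hg hV hok h0 hfin (by omega)
  rw [F.low_top, hn, one_mul] at h
  exact F.ne_top (Subgroup.eq_top_of_le_card _ (by rwa [Subgroup.card_top] at h))

/-- The isomorphism with a simple model. -/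
theorem iso_model [Finite G] {M : Type} [Group M] [Finite M] [IsSimpleGroup M] (m : ℕ → M)
    (hm : Subgroup.closure (Set.range fun i : Fin 7 => m i) = ⊤) {R : List (List ℕ)}
    (hR : ∀ r ∈ R, wval F.g r = 1) (C : Cert)
    (hrules : rulesOK R C = true) (hg : C.gens = List.range 14) (hn : 0 < C.nLive)
    (hs : (C.subs.all fun l => Nat.blt l 12) = true) (hok : ∀ i < C.nFacts, factOK C i = true)
    (h0 : C.live.get 15 0 = 0) (hfin : ∀ c < C.nLive, rowOK C c = true)
    (hmC : ∀ ws ∈ C.rules, ∀ w ∈ ws, wval m w = 1) (hmA : ∀ ws ∈ aCert.rules, ∀ w ∈ ws, wval m w = 1)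
    (hcard : C.nLive * 432 ≤ Nat.card M) : Nonempty (G ≃* M) := by
  let gp : ℕ → G × M := fun i => (F.g i, m i)
  have hfst : ∀ w, (wval gp w).1 = wval F.g w := fun w => wval_map (MonoidHom.fst G M) gp w
  have hsnd : ∀ w, (wval gp w).2 = wval m w := fun w => wval_map (MonoidHom.snd G M) gp w
  have hA : Nat.card ↥(Subgroup.closure (lowSet gp 12)) ≤ 432 := by
    have hV : Valid aCert gp (⊥ : Subgroup (G × M)) := by
      refine ⟨fun ws hws w hw => Prod.ext ?_ ?_, fun s h => ?_⟩
      · rw [hfst]; exact wval_okRule _ F.baseRels_one (List.all_eq_true.1 (List.all_eq_true.1 rules_side ws hws) w hw)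
      · rw [hsnd]; exact hmA ws hws w hw
      · rw [cert_shapes.2.1] at h; exact absurd h (List.not_mem_nil)
    have h := card_low_le gp ⊥ aCert cert_shapes.1 hV aCert_fact_ok aCert_live_zero aCert_row_ok
      (by rw [cert_shapes.2.2.1]; omega)
    rwa [cert_shapes.2.2.1, Subgroup.card_bot, mul_one] at h
  set Γ := Subgroup.closure (lowSet gp 14) with hΓ
  have hV : Valid C gp (Subgroup.closure (lowSet gp 12)) := by
    refine ⟨fun ws hws w hw => Prod.ext ?_ ?_, fun s h => Subgroup.subset_closure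
      ⟨s, Nat.lt_of_succ_le (Nat.le_of_ble_eq_true (List.all_eq_true.1 hs s h)), rfl⟩⟩
    · rw [hfst]; exact wval_okRule _ hR (List.all_eq_true.1 (List.all_eq_true.1 hrules ws hws) w hw)
    · rw [hsnd]; exact hmC ws hws w hw
  have hle : Nat.card Γ ≤ Nat.card M :=
    (card_low_le gp _ C hg hV hok h0 hfin hn).trans ((Nat.mul_le_mul_left _ hA).trans hcard)
  let p1 : Γ →* G := (MonoidHom.fst G M).comp Γ.subtype
  let p2 : Γ →* M := (MonoidHom.snd G M).comp Γ.subtype
  have hs1 : Function.Surjective p1 := MonoidHom.range_eq_top.1 (eq_top_iff.2 (by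
    rw [← F.low_top, Subgroup.closure_le]
    rintro _ ⟨j, hj, rfl⟩
    refine ⟨⟨lval gp j, Subgroup.subset_closure ⟨j, hj, rfl⟩⟩, ?_⟩
    have := hfst [j]
    show (lval gp j).1 = lval F.g j
    simpa [wval] using this))
  have hs2 : Function.Surjective p2 := MonoidHom.range_eq_top.1 (eq_top_iff.2 (by
    rw [← hm, Subgroup.closure_le]
    rintro _ ⟨i, rfl⟩
    exact ⟨⟨gp i, gen_mem_low gp i⟩, rfl⟩))
  have hb : Function.Bijective p2 := by
    exact ⟨((Function.Surjective.bijective_of_nat_card_le hs2 hle).1), hs2⟩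
  let e : Γ ≃* M := MulEquiv.ofBijective p2 hb
  let f : M →* G := p1.comp e.symm.toMonoidHom
  have hf : Function.Surjective f := hs1.comp e.symm.surjective
  rcases (MonoidHom.normal_ker f).eq_bot_or_eq_top with h | h
  · exact ⟨(MulEquiv.ofBijective f ⟨(MonoidHom.ker_eq_bot_iff f).1 h, hf⟩).symm⟩
  · exfalso
    refine F.ne_top (eq_top_iff.2 fun x _ => ?_)
    obtain ⟨y, rfl⟩ := hf x
    rw [show f y = 1 from MonoidHom.mem_ker.1 (h ▸ Subgroup.mem_top y)]
    exact one_mem _

theorem cube_wval [Finite G] :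
    (∃ a, (a = [] ∨ a = tW) ∧ wval F.g (fW ++ fW ++ fW ++ a) = 1) ∧
      ∃ b, (b = [] ∨ b = tW) ∧ wval F.g (fW' ++ fW' ++ fW' ++ b) = 1 := by
  obtain ⟨h1, h2⟩ := F.cube_cases
  have ht := F.word_facts.1
  have z0 : wval F.g [0] = F.z := by simp [wval, lval, idL, Frame.z]
  have z1 : wval F.g [1] = F.z⁻¹ := by simp [wval, lval, idL, Frame.z]
  have z2 : wval F.g [0, 0] = F.z * F.z := by simp [wval, lval, idL, Frame.z]
  have e1 : wval F.g fW = F.i * F.i' * F.z := by rw [fW, wval_append, wval_append, z0]; rfl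
  have e2 : wval F.g fW' = F.i * F.z⁻¹ * F.i' * F.z * F.z := by
    rw [fW', wval_append, wval_append, wval_append, z1, z2]
    simp only [Frame.i, Frame.i', mul_assoc]
  have hc : ∀ (w : List ℕ) (x : G), wval F.g w = x →
      ∀ a, wval F.g (w ++ w ++ w ++ a) = x ^ 3 * wval F.g a := by
    intro w x e a
    rw [wval_append, wval_append, wval_append, e, pow_three, mul_assoc x x x]
  constructor
  · rcases h1 with h | h
    · exact ⟨[], Or.inl rfl, by rw [hc _ _ e1, h, wval_nil, one_mul]⟩
    · exact ⟨tW, Or.inr rfl, by rw [hc _ _ e1, h, F.wval_tW, ht]⟩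
  · rcases h2 with h | h
    · exact ⟨[], Or.inl rfl, by rw [hc _ _ e2, h, wval_nil, one_mul]⟩
    · exact ⟨tW, Or.inr rfl, by rw [hc _ _ e2, h, F.wval_tW, ht]⟩

include F in
/-- The amalgam lives in two groups only. -/
theorem main [Finite G] :
    Cfsg.Spor.IsoM12 G ∨ Nonempty (G ≃* Matrix.ProjectiveSpecialLinearGroup (Fin 3) (ZMod 3)) := by
  obtain ⟨-, -, -, gA, nA, gB, nB, gL, nL, gM, nM, sA, sB, sL, sM⟩ := cert_shapes
  obtain ⟨⟨a, ha, hwa⟩, b, hb, hwb⟩ := F.cube_wval
  have hR := F.rels_one hwa hwb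
  rcases ha with rfl | rfl <;> rcases hb with rfl | rfl
  · exact (F.kill hR killAC rules_killA gA nA sA killAC_fact_ok killAC_live_zero killAC_row_ok).elim
  · right
    haveI : Fintype (ZMod 3) := inferInstance
    haveI := Cfsg.Lib.Linear.PSL_simple_of_three_le (ι := Fin 3) (F := ZMod 3) (by simp)
    let q : Matrix.SpecialLinearGroup (Fin 3) (ZMod 3) →* Matrix.ProjectiveSpecialLinearGroup (Fin 3) (ZMod 3) :=
      QuotientGroup.mk' _
    have hfix : ∀ (K : Cert), rulesFix tabL 27 K = true → ∀ ws ∈ K.rules, ∀ w ∈ ws,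
        wval (fun i => q (matL i)) w = 1 := fun K hK ws hws w hw => by
      rw [← wval_map, lTables.eq_one (List.all_eq_true.1 (List.all_eq_true.1 hK ws hws) w hw), map_one]
    refine F.iso_model (fun i => q (matL i)) ?_ hR lCert rules_L gL (by omega) sL lCert_fact_ok lCert_live_zero
      lCert_row_ok (hfix _ fix_L) (hfix _ fix_sideL) (by rw [nL, card_psl_three])
    rw [show (Set.range fun i : Fin 7 => q (matL i)) = q '' Set.range (fun i : Fin 7 => matL i) by
      rw [← Set.range_comp]; rfl, ← MonoidHom.map_closure, matL_closure]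
    exact Subgroup.map_top_of_surjective q (QuotientGroup.mk'_surjective _)
  · exact (F.kill hR killBC rules_killB gB nB sB killBC_fact_ok killBC_live_zero killBC_row_ok).elim
  · left
    haveI := twelve_simple
    obtain ⟨e⟩ := F.iso_model twL twL_closure hR mCert rules_M gM (by omega) sM mCert_fact_ok mCert_live_zero
      mCert_row_ok
      (fun ws hws w hw => mTables.eq_one (List.all_eq_true.1 (List.all_eq_true.1 fix_M ws hws) w hw))
      (fun ws hws w hw => mTables.eq_one (List.all_eq_true.1 (List.all_eq_true.1 fix_sideM ws hws) w hw))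
      (by rw [nM, Cfsg.Lib.MTwelveRecog.card_stdTwelve])
    obtain ⟨ι⟩ := Cfsg.Lib.MTwelveRecog.nonempty_sporM12_std
    exact ⟨e.trans ι.symm⟩

end Frame

end Cfsg.Lib.AmalgamM12
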